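import Groth.Agent.H17.GorCurve.Curve
import Groth.Agent.H22Alg.DevLength
import Groth.Agent.H22Alg.CurveAmple
import Groth.Agent.S7642
import Groth.Agent.H29CurveDual.Subcurve.Generation
import Groth.Agent.S1605

/-!
# Balanced invertible modules on Gorenstein curves: the numerical lemmas
-/

set_option autoImplicit false
set_option linter.style.haveILetI false
set_option linter.unusedSectionVars false
set_option backward.isDefEq.respectTransparency false
set_option synthInstance.maxHeartbeats 400000

universe u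

open CategoryTheory CategoryTheory.Limits AlgebraicGeometry TopologicalSpace Opposite
open Groth.Agent.H29CurveDual.Subcurve

attribute [local instance] HasDerivedCategory.standard

namespace Groth.Agent.H17.GorCurve

attribute [local instance 10000] H10Coh.hasSheafifyAb H10Coh.hasWeakSheafifyAb H10Coh.hasExtAb H10Coh.enoughInjAb

variable {k : Type u} [Field k] {X : Scheme.{u}} [X.Over (Spec (CommRingCat.of k))]
  [IsProper (X ↘ Spec (CommRingCat.of k))]

/-- An ample module has positive degree on a closed set with a nonclosed point. -/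
theorem degW_pos_of_ample [IsReduced X] [IsNoetherian X] (hdim : topologicalKrullDim X ≤ 1) {L : X.Modules}
    (hamp : CohB1.IsAmple L) {W : Closeds X} {η : X} (hηW : η ∈ W) (hη : ¬ IsClosed ({η} : Set X)) :
    0 < degW k W L := by
  have hLi := H11Ample.isInvertible_of_isAmple hamp
  obtain ⟨M, hM, ⟨φ⟩⟩ := H11Sym.exists_inverse hLi
  let O := ClSub.quotMod (idl W)
  have hO : Coh.IsCoh O := LeadDev.isCoh_push_structure (idl W).subschemeι
  have hd : topologicalKrullDim (CohB1.support O) ≤ ((1 : ℕ) : WithBot ℕ∞) :=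
    (Topology.IsInducing.subtypeVal.topologicalKrullDim_le).trans hdim
  have hnil : ∀ B ∈ ([] : List X.Modules), PicF.IsInvertible B := by simp
  have hc : ∀ {B B' : X.Modules}, (B ≅ B') → H28Int.D k [B] O = H28Int.D k [B'] O := fun {B B'} ψ => by
    show Curv2.euler k X _ - Curv2.euler k X _ = Curv2.euler k X _ - Curv2.euler k X _
    rw [H25Euler.euler_congr (PicGrp.tensorModIso ψ (Iso.refl O))]
  have hsum := H28Int.D_cons_tensor k hnil hLi hM hO (A := L) (B := M) (F := O) (by simpa using hd)
  rw [hc (H10Coh.Tw.commIso L M ≪≫ φ), H28Int.D_cons_structure k hnil] at hsum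
  have hcd : ((1 : ℕ) : WithBot ℕ∞) ≤ H8Props.FieldDim.cdim η := by
    obtain ⟨z, hz, hne⟩ : ∃ z, η ⤳ z ∧ z ≠ η := by
      by_contra hc
      push Not at hc
      exact hη (closure_subset_iff_isClosed.1 fun z hz => hc z (specializes_iff_mem_closure.2 hz))
    by_contra hlt
    have h0 : topologicalKrullDim (closure ({η} : Set X)) ≤ ((0 : ℕ) : WithBot ℕ∞) :=
      Order.le_of_lt_succ (α := WithBot ℕ∞) (by
        rw [not_le] at hlt
        exact hlt.trans_le (le_of_eq (by rfl)))
    have hlt' := H22Alg.DevLength.dim_closure_lt hz hne h0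
    haveI : Nonempty (IrreducibleCloseds (closure ({z} : Set X))) :=
      ⟨⟨closure {⟨z, subset_closure rfl⟩}, isIrreducible_singleton.closure, isClosed_closure⟩⟩
    exact hlt'.not_ge Order.krullDim_nonneg
  have hpos := (H28Int.pos_of_ample k [M] (fun B hB => ⟨L, hamp, by
    obtain rfl := List.mem_singleton.1 hB
    exact ⟨H10Coh.Tw.commIso L _ ≪≫ φ⟩⟩) O hO (by simpa using hd)).2
      ⟨η, by rw [mem_support_quot, Scheme.IdealSheafData.coe_support_vanishingIdeal]; exact hηW, hcd⟩
  have hD : H28Int.D k [L] O = - degW k W L := by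
    show Curv2.euler k X _ - Curv2.euler k X _ = _
    rw [H25Euler.euler_congr (H10Coh.Tw.commIso L O)]
    simp only [degW, res, O]
    omega
  omega

theorem exists_nonclosed {W : Closeds X} (hW : IsPure W) (hne : (W : Set X).Nonempty) :
    ∃ η, η ∈ W ∧ ¬ IsClosed ({η} : Set X) := by
  obtain ⟨x, hx⟩ := hne
  obtain ⟨η, -, hη⟩ := mem_closure_iff.1 (hW hx) Set.univ isOpen_univ trivial
  exact ⟨η, hη⟩

include k in
theorem support_nonempty (J : X.IdealSheafData) [ConnectedSpace J.subscheme] : (J.support : Set X).Nonempty := by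
  obtain ⟨y⟩ : Nonempty J.subscheme := inferInstance
  exact ⟨J.subschemeι y, by rw [← Scheme.IdealSheafData.range_subschemeι]; exact ⟨y, rfl⟩⟩

/-- An ample module has positive degree on every subcurve. -/
theorem degJ_pos_of_ample [IsReduced X] (hdim : topologicalKrullDim X ≤ 1) {L : X.Modules}
    (hamp : CohB1.IsAmple L) (J : X.IdealSheafData) [IsReduced J.subscheme] [ConnectedSpace J.subscheme]
    (hJ : topologicalKrullDim J.subscheme = 1) : 0 < degJ k J L := by
  haveI := H28Int.isNoetherian k (X := X)
  have hW := isPure_support (k := k) hdim J hJ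
  have hne := support_nonempty (k := k) J
  obtain ⟨W, rfl⟩ : ∃ W : Closeds X, J = idl W := ⟨_, idl_support J⟩
  refine lt_of_lt_of_eq ?_ (degW_eq_deg (H11Ample.isInvertible_of_isAmple hamp) W)
  obtain ⟨η, hη, hη'⟩ := exists_nonclosed hW hne
  exact degW_pos_of_ample hdim hamp (by
    rwa [← SetLike.mem_coe, Scheme.IdealSheafData.coe_support_vanishingIdeal] at hη) hη'

theorem isPure_closure {η : X} (hη : ¬ IsClosed ({η} : Set X)) :
    IsPure (⟨closure {η}, isClosed_closure⟩ : Closeds X) :=
  closure_mono (Set.singleton_subset_iff.2 ⟨subset_closure rfl, hη⟩)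

/-- A subcurve on which an ample module has degree one is irreducible. -/
theorem irreducible_of_degJ_le_one [IsReduced X] (hdim : topologicalKrullDim X ≤ 1) {L : X.Modules}
    (hamp : CohB1.IsAmple L) (J : X.IdealSheafData) [IsReduced J.subscheme] [ConnectedSpace J.subscheme]
    (hJ : topologicalKrullDim J.subscheme = 1) (h : degJ k J L ≤ 1) : IrreducibleSpace J.subscheme := by
  letI := overJ k J
  haveI : IsProper (J.subscheme ↘ Spec (CommRingCat.of k)) :=
    inferInstanceAs (IsProper (J.subschemeι ≫ (X ↘ Spec (CommRingCat.of k))))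
  haveI := H28Int.isNoetherian k (X := X)
  haveI := H28Int.isNoetherian k (X := J.subscheme)
  have hp : IsPure (⊤ : Closeds J.subscheme) := isPure_top hJ
  have hM := H11Ample.isAmple_pullback_of_isAffineHom J.subschemeι hamp
  obtain ⟨η, -, hη⟩ := exists_nonclosed hp Set.univ_nonempty
  let C : Closeds J.subscheme := ⟨closure {η}, isClosed_closure⟩
  have hC : (C : Set J.subscheme) = Set.univ := by
    refine Set.eq_univ_of_forall fun x => ?_
    by_contra hx
    obtain ⟨η', hη'C, hη'⟩ := exists_nonclosed (isPure_compl hp C) ⟨x, mem_compl_of_notMem hx⟩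
    have h1 := degW_pos_of_ample (k := k) hJ.le hM (W := C) (subset_closure rfl) hη
    have h2 := degW_pos_of_ample (k := k) hJ.le hM hη'C hη'
    have h3 := degW_add_compl (k := k) hJ.le hp (H11Ample.isInvertible_of_isAmple hM) C
    change Curv2.deg k J.subscheme _ 1 ≤ 1 at h
    omega
  exact (irreducibleSpace_def _).2 (Set.top_eq_univ (α := J.subscheme) ▸ hC ▸
    (isIrreducible_singleton.closure : IsIrreducible (C : Set J.subscheme)))

variable [IsReduced X] [ConnectedSpace X]

omit [ConnectedSpace X] in
theorem degJ_bot {L : X.Modules} (hL : PicF.IsInvertible L) :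
    degJ k (⊥ : X.IdealSheafData) L = Curv2.deg k X L 1 := by
  haveI := H28Int.isNoetherian k (X := X)
  obtain ⟨W, hW, h0⟩ : ∃ W : Closeds X, W = ⊤ ∧ (⊥ : X.IdealSheafData) = idl W := ⟨⊤, rfl, by
    rw [idl, Scheme.IdealSheafData.vanishingIdeal_top, Scheme.nilradical_eq_bot]⟩
  rw [h0]
  refine (degW_eq_deg hL W).symm.trans ?_
  subst hW
  haveI := isIso_proj_top (X := X) L
  haveI := isIso_proj_top (X := X) (Coh.structureModule X)
  rw [degW, H29RR.deg_def, ← H25Euler.euler_congr (k := k) (asIso (proj L (⊤ : Closeds X))),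
    ← H25Euler.euler_congr (k := k) (H10Coh.Tw.rightUnitIso (ClSub.quotMod (idl (⊤ : Closeds X)))),
    ← H25Euler.euler_congr (k := k) (asIso (proj (Coh.structureModule X) (⊤ : Closeds X)))]

omit [ConnectedSpace X] in
theorem euler_bot :
    @Curv2.euler k _ (⊥ : X.IdealSheafData).subscheme (overJ k ⊥) (Coh.structureModule (⊥ : X.IdealSheafData).subscheme) =
      Curv2.euler k X (Coh.structureModule X) := by
  haveI := H28Int.isNoetherian k (X := X)
  obtain ⟨W, hW, h0⟩ : ∃ W : Closeds X, W = ⊤ ∧ (⊥ : X.IdealSheafData) = idl W := ⟨⊤, rfl, by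
    rw [idl, Scheme.IdealSheafData.vanishingIdeal_top, Scheme.nilradical_eq_bot]⟩
  rw [h0]
  refine (euler_quot (k := k) W).symm.trans ?_
  subst hW
  haveI := isIso_proj_top (X := X) (Coh.structureModule X)
  rw [← H25Euler.euler_congr (k := k) (H10Coh.Tw.rightUnitIso (ClSub.quotMod (idl (⊤ : Closeds X)))),
    ← H25Euler.euler_congr (k := k) (asIso (proj (Coh.structureModule X) (⊤ : Closeds X)))]

/-- The whole curve as a subcurve. -/
theorem subcurve_bot (hdim : topologicalKrullDim X = 1) :
    IsReduced (⊥ : X.IdealSheafData).subscheme ∧ ConnectedSpace (⊥ : X.IdealSheafData).subscheme ∧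
      topologicalKrullDim (⊥ : X.IdealSheafData).subscheme = 1 := by
  haveI : IsIso (⊥ : X.IdealSheafData).subschemeι := (Scheme.isIso_subschemeι_iff_eq_bot _).2 rfl
  refine ⟨isReduced_of_isOpenImmersion (⊥ : X.IdealSheafData).subschemeι, ?_, ?_⟩
  · exact (⊥ : X.IdealSheafData).subschemeι.homeomorph.symm.surjective.connectedSpace
      (⊥ : X.IdealSheafData).subschemeι.homeomorph.symm.continuous
  · exact ((⊥ : X.IdealSheafData).subschemeι.homeomorph.isHomeomorph.topologicalKrullDim_eq).trans hdim

/-- The numbers attached to a connected subcurve: with `D = deg ω`, `δ` the length of the intersection with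
the rest and `γ` the genus, `D = 2γ - 2 + δ`, and `δ = 0` only for the whole curve. -/
theorem numerics [IsAlgClosed k] (hdim : topologicalKrullDim X = 1) {ω : X.Modules} (hω : IsDualizing k ω)
    {L : X.Modules} (hL : PicF.IsInvertible L) (J : X.IdealSheafData) [IsReduced J.subscheme]
    [ConnectedSpace J.subscheme] (hJ : topologicalKrullDim J.subscheme = 1) :
    degJ k J ω = 2 * (@Curv2.genus k _ J.subscheme (overJ k J) : ℤ) - 2 + deltaJ k J ∧
    ((degJ k J ω = 2 * (Curv2.genus k X : ℤ) - 2 ∧ degJ k J L = Curv2.deg k X L 1 ∧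
        (@Curv2.genus k _ J.subscheme (overJ k J) : ℤ) = (Curv2.genus k X : ℤ)) ∨ 1 ≤ deltaJ k J) := by
  have hX : Curv2.euler k X (Coh.structureModule X) = 1 - (Curv2.genus k X : ℤ) := by
    rw [H29RR.euler_eq_sub (k := k) hdim.le, H29RR.finrank_h0_structure k X]
    rfl
  have h1 := degJ_omega hdim hω J hJ
  have h2 := euler_subcurve (k := k) hdim.le J
  refine ⟨by rw [h1, h2]; ring, ?_⟩
  by_cases hne : J = ⊥
  · subst hne
    refine Or.inl ⟨?_, degJ_bot hL, ?_⟩
    · rw [degJ_bot hω.1, deg_omega hdim hω, hX]; ring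
    · have := (euler_bot (k := k) (X := X)).symm.trans h2
      omega
  · exact Or.inr (deltaJ_pos hdim J hne)

theorem isAmple_of_degJ_pos (hdim : topologicalKrullDim X = 1) {L : X.Modules} (hL : PicF.IsInvertible L)
    (h : ∀ J : X.IdealSheafData, IsReduced J.subscheme → ConnectedSpace J.subscheme →
      topologicalKrullDim J.subscheme = 1 → 0 < degJ k J L) : CohB1.IsAmple L := by
  haveI := H28Int.isNoetherian k (X := X)
  refine (S7642.result k X hdim.le L hL).2 fun C hC hCd => ?_
  let J := (X.irreducibleComponentIdeal C hC).radical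
  have hr : Set.range J.subschemeι = C := by rw [Scheme.IdealSheafData.range_subschemeι]; rfl
  haveI : IsReduced J.subscheme := by
    rw [show J = Scheme.IdealSheafData.vanishingIdeal (X.irreducibleComponentIdeal C hC).support from
      Scheme.IdealSheafData.vanishingIdeal_support.symm]
    exact H17.isReduced_vanishingIdeal_subscheme _
  let e := J.subschemeι.isClosedEmbedding.isEmbedding.toHomeomorph
  haveI : ConnectedSpace C := isConnected_iff_connectedSpace.1 hC.1.isConnected
  haveI : ConnectedSpace (Set.range J.subschemeι) := hr.symm ▸ ‹ConnectedSpace C›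
  refine h J ‹_› (e.symm.surjective.connectedSpace e.symm.continuous) ?_
  rw [e.isHomeomorph.topologicalKrullDim_eq, hr, hCd]

/-- Vanishing of `H¹` from the degrees on the connected subcurves. -/
theorem subsingleton_h1_of_degJ (hdim : topologicalKrullDim X = 1) {L : X.Modules} (hL : PicF.IsInvertible L)
    (h : ∀ J : X.IdealSheafData, IsReduced J.subscheme → ConnectedSpace J.subscheme →
      topologicalKrullDim J.subscheme = 1 →
      -2 * @Curv2.euler k _ J.subscheme (overJ k J) (Coh.structureModule J.subscheme) < degJ k J L) :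
    Subsingleton (Coh.HH X L 1) := by
  haveI := H28Int.isNoetherian k (X := X)
  rw [← not_nontrivial_iff_subsingleton]
  intro hn
  have hsupp : ∀ y : X, Subsingleton ((ClSub.quotMod (⊤ : X.IdealSheafData)).presheaf.stalk y) := fun y => by
    refine not_not.1 fun hy => ?_
    have := (mem_support_quot (⊤ : X.IdealSheafData)).le hy
    simp at this
  haveI := H10Coh.epi_toSubscheme (⊤ : X.IdealSheafData)
  haveI : IsIso (ClSub.idealModι (⊤ : X.IdealSheafData)) :=
    H29RR.isIso_of_bijective_stalks _ fun y => bijective_stalk_kernelι _ (hsupp y)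
  let e : CohB1.tensorMod (ClSub.idealMod (⊤ : X.IdealSheafData)) L ≅ L :=
    PicGrp.tensorModIso (asIso (ClSub.idealModι (⊤ : X.IdealSheafData))) (Iso.refl L) ≪≫ H10Coh.Tw.leftUnitIso L
  obtain ⟨J, hJr, hJc, hJd, hle⟩ := Groth.Agent.S1605.result k X hdim L hL ⊤
    (by
      have he : ((⊤ : X.IdealSheafData).support : Set X) = ∅ := by simp
      rw [he]; exact topologicalKrullDim_zero_of_discreteTopology _)
    ((H29RR.hhIso (k := k) e 1).toEquiv.nontrivial)
  have h0 : Module.finrank k (Coh.HH X (ClSub.quotMod ((⊤ : X.IdealSheafData) ⊔ J)) 0) = 0 := by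
    rw [top_sup_eq]
    have hz : (𝟙 (ClSub.quotMod (⊤ : X.IdealSheafData))) = 0 := (H16Derived.KFlat.Stalk.isZero_of_stalk fun y => by
      haveI : Subsingleton ((DerSch.stalkFunctor X y).obj (ClSub.quotMod (⊤ : X.IdealSheafData))) := hsupp y
      exact ModuleCat.isZero_of_subsingleton _).eq_of_src _ _
    haveI : Subsingleton (Coh.HH X (ClSub.quotMod (⊤ : X.IdealSheafData)) 0) := subsingleton_of_forall_eq 0 fun v => by
      rw [← H29RR.hhlin_id (k := k) _ 0 v, hz, H29RR.hhlin_zero]
    exact Module.finrank_zero_of_subsingleton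
  have := h J hJr hJc hJd
  rw [h0] at hle
  simp only [degJ, overJ] at this
  omega

end Groth.Agent.H17.GorCurve
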