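import Groth.Agent.H29CurveDual.Subcurve.Rank
import Groth.Agent.H29CurveDual.Canonical
import Groth.Agent.H4RSH.CurveBidual
import Groth.Agent.H10Coh.SerreVanishing2
import Groth.Agent.H11Ample.RelAmple
import Groth.Agent.H27Prod.Fibre
import Groth.Agent.H17.AssPts
import Groth.Agent.H14AlgSt.IdealLemmas

/-!
# Degree of the dualizing module on the subcurves of a reduced Gorenstein curve

For a reduced projective curve with an invertible dualizing module `ω` and a pure closed subset `W`
with complementary curve `W'`, duality for the restrictions of very negative twists of `ω` gives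
`deg (ω|W) = χ(O_{W'}) - χ(O_X) - χ(O_W) = -2 χ(O_W) + δ`, with `δ` the length of `W ∩ W'`.
-/

set_option autoImplicit false
set_option linter.style.haveILetI false
set_option linter.unusedSectionVars false
set_option backward.isDefEq.respectTransparency false
set_option synthInstance.maxHeartbeats 400000

universe u

open CategoryTheory CategoryTheory.Limits AlgebraicGeometry TopologicalSpace Opposite
open Groth.Agent.H29RR Groth.Agent.H06Mod Groth.Agent.H29CurveDual Groth.Agent.H29CurveDual.Subcurve

namespace Groth.Agent.H17.GorCurve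

attribute [local instance 10000] H10Coh.hasSheafifyAb H10Coh.hasWeakSheafifyAb H10Coh.hasExtAb H10Coh.enoughInjAb

variable {X : Scheme.{u}}

/-- The closure of the complement of a closed set. -/
def compl (W : Closeds X) : Closeds X := ⟨closure ((W : Set X)ᶜ), isClosed_closure⟩

theorem mem_compl_of_notMem {W : Closeds X} {x : X} (h : x ∉ W) : x ∈ compl W := subset_closure h

theorem mem_iff_notMem_compl [IsNoetherian X] (hdim : topologicalKrullDim X ≤ 1)
    (hp : IsPure (⊤ : Closeds X)) (W : Closeds X) {η : X} (hη : ¬ IsClosed ({η} : Set X)) :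
    η ∈ W ↔ η ∉ compl W := by
  refine ⟨fun hW hc => ?_, fun h => not_not.1 fun h' => h (mem_compl_of_notMem h')⟩
  let N : Set X := {z | ¬ IsClosed ({z} : Set X) ∧ z ≠ η}
  have hN : N.Finite := (finite_nonclosed hdim).subset fun z hz => hz.1
  have hN' : IsClosed (⋃ z ∈ N, closure ({z} : Set X)) := hN.isClosed_biUnion fun z _ => isClosed_closure
  have hsub : (W : Set X)ᶜ ⊆ ⋃ z ∈ N, closure ({z} : Set X) := fun x hx => by
    have h1 : x ∈ closure {z | z ∈ (⊤ : Closeds X) ∧ ¬ IsClosed ({z} : Set X)} := hp trivial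
    rw [← Set.biUnion_of_singleton {z | z ∈ (⊤ : Closeds X) ∧ ¬ IsClosed ({z} : Set X)},
      ((finite_nonclosed hdim).subset fun z hz => hz.2).closure_biUnion] at h1
    simp only [Set.mem_iUnion] at h1 ⊢
    obtain ⟨z, hz, hxz⟩ := h1
    refine ⟨z, ⟨hz.2, fun e => hx ?_⟩, hxz⟩
    subst e
    exact W.isClosed.closure_subset_iff.2 (Set.singleton_subset_iff.2 hW) hxz
  have h2 : η ∈ ⋃ z ∈ N, closure ({z} : Set X) := closure_minimal hsub hN' hc
  simp only [Set.mem_iUnion] at h2
  obtain ⟨z, ⟨hz, hne⟩, hzη⟩ := h2
  exact hne ((H8Props.mem_genericPoints_iff.1 (mem_genericPoints_of_not_isClosed hdim hη)) z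
    (specializes_iff_mem_closure.2 hzη))

theorem isPure_compl (hp : IsPure (⊤ : Closeds X)) (W : Closeds X) : IsPure (compl W) := by
  refine closure_minimal (fun x hx => mem_closure_iff.2 fun O hO hxO => ?_) isClosed_closure
  obtain ⟨η, ⟨hηO, hηW⟩, -, hη⟩ := mem_closure_iff.1 (hp (Set.mem_univ x)) (O ∩ (W : Set X)ᶜ)
    (hO.inter W.isClosed.isOpen_compl) ⟨hxO, hx⟩
  exact ⟨η, hηO, mem_compl_of_notMem hηW, hη⟩

variable [IsReduced X] [IsNoetherian X]

/-- Morphisms into an invertible module are determined at the nonclosed points. -/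
theorem hom_eq_zero_of_nonclosed (hp : IsPure (⊤ : Closeds X)) {F L : X.Modules} (hL : PicF.IsInvertible L)
    (φ : F ⟶ L) (h : ∀ η : X, ¬ IsClosed ({η} : Set X) → ((DerSch.stalkFunctor X η).map φ).hom = 0) :
    φ = 0 := by
  haveI := isIso_proj_top (X := X) L
  rw [← cancel_mono (proj L (⊤ : Closeds X)), zero_comp]
  refine hom_res_eq_zero hL hp _ fun η _ hη => ?_
  rw [Functor.map_comp, ModuleCat.hom_comp, h η hη, LinearMap.comp_zero]

theorem stalk_proj_eq_zero {L : X.Modules} (hL : PicF.IsInvertible L) {W : Closeds X} {η : X} (h : η ∉ W) :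
    ((DerSch.stalkFunctor X η).map (proj L W)).hom = 0 := by
  haveI : Subsingleton ((res L W).presheaf.stalk η) :=
    not_nontrivial_iff_subsingleton.1 fun hn => h ((nontrivial_stalk_res_iff hL W η).1 hn)
  exact LinearMap.ext fun a => @Subsingleton.elim ((res L W).presheaf.stalk η) ‹_› _ _

theorem bijective_stalk_proj (hdim : topologicalKrullDim X ≤ 1) {L : X.Modules} (hL : PicF.IsInvertible L)
    {W : Closeds X} {η : X} (hη : ¬ IsClosed ({η} : Set X)) (h : η ∈ W) :
    Function.Bijective ((DerSch.stalkFunctor X η).map (proj L W)).hom := by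
  haveI := epi_proj hL W
  exact bijective_stalk_of_epi hdim hL _ hη ((nontrivial_stalk_res_iff hL W η).2 h)

/-- A morphism between invertible modules factors through the restriction to `W` exactly when it vanishes
on the complementary curve. -/
theorem exists_fac_iff (hdim : topologicalKrullDim X ≤ 1) (hp : IsPure (⊤ : Closeds X)) {L M : X.Modules}
    (hL : PicF.IsInvertible L) (hM : PicF.IsInvertible M) (W : Closeds X) (φ : L ⟶ M) :
    (∃ ψ, proj L W ≫ ψ = φ) ↔ φ ≫ proj M (compl W) = 0 := by
  constructor
  · rintro ⟨ψ, rfl⟩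
    refine hom_res_eq_zero hM (isPure_compl hp W) _ fun η hη hηc => ?_
    have hW : η ∉ W := fun h => (mem_iff_notMem_compl hdim hp W hηc).1 h hη
    rw [Category.assoc, Functor.map_comp, ModuleCat.hom_comp, stalk_proj_eq_zero hL hW, LinearMap.comp_zero]
  · intro h
    haveI := epi_proj hL W
    have hS := H10Coh.shortExact_kernel (proj L W)
    have h0 : kernel.ι (proj L W) ≫ φ = 0 := by
      refine hom_eq_zero_of_nonclosed hp hM _ fun η hη => ?_
      rw [Functor.map_comp, ModuleCat.hom_comp]
      refine LinearMap.ext fun a => ?_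
      by_cases hW : η ∈ W
      · have hz : ((DerSch.stalkFunctor X η).map (kernel.ι (proj L W))).hom a = 0 := by
          refine (bijective_stalk_proj hdim hL hη hW).1 ?_
          rw [map_zero, ← LinearMap.comp_apply, ← ModuleCat.hom_comp, ← Functor.map_comp, kernel.condition,
            Functor.map_zero]
          rfl
        rw [LinearMap.comp_apply, hz, map_zero, LinearMap.zero_apply]
      · have hc : η ∈ compl W := mem_compl_of_notMem hW
        refine (bijective_stalk_proj hdim hM hη hc).1 ?_
        rw [LinearMap.zero_apply, map_zero, LinearMap.comp_apply, ← LinearMap.comp_apply, ← ModuleCat.hom_comp,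
          ← Functor.map_comp, h, Functor.map_zero]
        rfl
    obtain ⟨ψ, hψ⟩ := CokernelCofork.IsColimit.desc' hS.gIsCokernel φ h0
    exact ⟨ψ, hψ⟩

/-- The ideal of a closed set times an invertible module is the kernel of the restriction. -/
theorem nonempty_kernel_proj_iso {L : X.Modules} (hL : PicF.IsInvertible L) (W : Closeds X) :
    Nonempty (kernel (proj L W) ≅ CohB1.tensorMod (ClSub.idealMod (idl W)) L) := by
  haveI := H10Coh.epi_toSubscheme (idl W)
  have hflat : FlatMod.IsFlat L :=
    H16Derived.KFlat.Stalk.isFlat_of_isFinLocFree (H28Pinch.isFinLocFree_of_isInvertible hL)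
  have hS := H16Derived.KFlat.Stalk.isFlatObj_of_isFlat hflat _ (H10Coh.shortExact_kernel (ClSub.toSubscheme (idl W)))
  let e1 : kernel (proj L W) ≅ kernel (LimSh.tensorModMap (ClSub.toSubscheme (idl W)) L) :=
    kernelIsIsoComp (H10Coh.Tw.leftUnitIso L).inv (LimSh.tensorModMap (ClSub.toSubscheme (idl W)) L)
  exact ⟨e1 ≪≫ (limit.isLimit _).conePointUniqueUpToIso hS.fIsKernel⟩

variable {k : Type u} [Field k] [X.Over (Spec (CommRingCat.of k))]

attribute [local instance] homModule

/-- Homomorphisms out of a restriction to `W` are sections of a twist vanishing on the complement. -/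
theorem finrank_hom_res (hdim : topologicalKrullDim X ≤ 1) (hp : IsPure (⊤ : Closeds X)) {L L' ω : X.Modules}
    (hL : PicF.IsInvertible L) (hL' : PicF.IsInvertible L') (e : CohB1.tensorMod L L' ≅ Coh.structureModule X)
    (hω : PicF.IsInvertible ω) (W : Closeds X) :
    Module.finrank k (res L W ⟶ ω) =
      Module.finrank k (Coh.HH X (CohB1.tensorMod (ClSub.idealMod (idl (compl W))) (CohB1.tensorMod ω L')) 0) := by
  haveI := epi_proj hL W
  let π := proj ω (compl W)
  let T : (res L W ⟶ ω) →ₗ[k] (L ⟶ kernel π) :=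
    { toFun := fun ψ => kernel.lift π (proj L W ≫ ψ) ((exists_fac_iff hdim hp hL hω W _).1 ⟨ψ, rfl⟩)
      map_add' := fun a b => by
        rw [← cancel_mono (kernel.ι π), Preadditive.add_comp]
        simp only [kernel.lift_ι, Preadditive.comp_add]
      map_smul' := fun a ψ => by
        rw [← cancel_mono (kernel.ι π), RingHom.id_apply]
        simp only [smul_def, kernel.lift_ι, Category.assoc, scal_natural, kernel.lift_ι_assoc] }
  have hb : Function.Bijective T := by
    refine ⟨fun a b h => ?_, fun θ => ?_⟩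
    · rw [← cancel_epi (proj L W)]
      simpa only [T, LinearMap.coe_mk, AddHom.coe_mk, kernel.lift_ι] using congrArg (· ≫ kernel.ι π) h
    · obtain ⟨ψ, hψ⟩ := (exists_fac_iff hdim hp hL hω W (θ ≫ kernel.ι π)).2
        (by rw [Category.assoc, kernel.condition, comp_zero])
      refine ⟨ψ, ?_⟩
      rw [← cancel_mono (kernel.ι π)]
      simpa only [T, LinearMap.coe_mk, AddHom.coe_mk, kernel.lift_ι] using hψ
  obtain ⟨eK⟩ := nonempty_kernel_proj_iso hω (compl W)
  rw [(LinearEquiv.ofBijective T hb).finrank_eq, finrank_hom_invertible k hL' e]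
  exact (hhIso (k := k) (PicGrp.tensorModIso eK (Iso.refl L') ≪≫ H10Coh.Tw.assoc _ _ _) 0).finrank_eq

theorem euler_split (hdim : topologicalKrullDim X ≤ 1) [IsProper (X ↘ Spec (CommRingCat.of k))] {L : X.Modules}
    (hL : PicF.IsInvertible L) (W : Closeds X) :
    Curv2.euler k X L =
      Curv2.euler k X (CohB1.tensorMod (ClSub.idealMod (idl W)) L) + Curv2.euler k X (res L W) := by
  haveI := epi_proj hL W
  obtain ⟨e⟩ := nonempty_kernel_proj_iso hL W
  have hc := H11Ample.isCoh_of_isInvertible hL
  have h := H25Euler.euler_add (k := k) (H10Coh.shortExact_kernel (proj L W))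
    (H10Coh.isCoh_kernel _ hc (isCoh_res hL W).1) hc (isCoh_res hL W)
  exact h.trans (by rw [← H25Euler.euler_congr (k := k) e])

end Groth.Agent.H17.GorCurve
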