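import Groth.Agent.H17.GorCurve.Degree
import Groth.Agent.H4RSH.SerreCurve
import Groth.Agent.H4RSH.LineSection
import Groth.Agent.H29RR.Consts

/-!
# Subcurves of a reduced curve with invertible dualizing module
-/

set_option autoImplicit false
set_option linter.style.haveILetI false
set_option linter.unusedSectionVars false
set_option backward.isDefEq.respectTransparency false
set_option synthInstance.maxHeartbeats 400000

universe u

open CategoryTheory CategoryTheory.Limits AlgebraicGeometry TopologicalSpace Opposite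
open Groth.Agent.H29CurveDual.Subcurve

attribute [local instance] HasDerivedCategory.standard

namespace Groth.Agent.H17.GorCurve

attribute [local instance 10000] H10Coh.hasSheafifyAb H10Coh.hasWeakSheafifyAb H10Coh.hasExtAb H10Coh.enoughInjAb

variable {k : Type u} [Field k] {X : Scheme.{u}} [X.Over (Spec (CommRingCat.of k))]

/-- An invertible module with a universal trace on first cohomology. -/
def IsDualizing (k : Type u) [Field k] [X.Over (Spec (CommRingCat.of k))] (ω : X.Modules) : Prop :=
  PicF.IsInvertible ω ∧ ∃ t : Coh.HH X ω 1 →ₗ[k] k,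
    ∀ G : X.Modules, Coh.IsQCoh G → ∀ ψ : Coh.HH X G 1 →ₗ[k] k, ∃! φ : G ⟶ ω, t ∘ₗ Canon.HHlin k φ 1 = ψ

/-- The structure of the subscheme over the ground field. -/
noncomputable abbrev overJ (k : Type u) [Field k] [X.Over (Spec (CommRingCat.of k))] (J : X.IdealSheafData) :
    J.subscheme.Over (Spec (CommRingCat.of k)) :=
  ⟨J.subschemeι ≫ (X ↘ Spec (CommRingCat.of k))⟩

/-- The degree on a closed subscheme. -/
noncomputable abbrev degJ (k : Type u) [Field k] [X.Over (Spec (CommRingCat.of k))] (J : X.IdealSheafData)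
    (L : X.Modules) : ℤ :=
  @Curv2.deg k _ J.subscheme (overJ k J) ((Scheme.Modules.pullback J.subschemeι).obj L) 1

/-- The length of the intersection with the closure of the complement. -/
noncomputable abbrev deltaJ (k : Type u) [Field k] [X.Over (Spec (CommRingCat.of k))] (J : X.IdealSheafData) : ℤ :=
  (Module.finrank k (Coh.HH X (ClSub.quotMod
    (J ⊔ Scheme.IdealSheafData.vanishingIdeal ⟨closure ((J.support : Set X)ᶜ), isClosed_closure⟩)) 0) : ℤ)

variable [IsProper (X ↘ Spec (CommRingCat.of k))]

/-- The dualizing module of a proper curve, when invertible, is dualizing in the above sense. -/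
theorem isDualizing_dualizingMod (hdim : topologicalKrullDim X ≤ 1)
    [DCoh.HasRpush (X ↘ (Spec (CommRingCat.of k)))] (h : DCoh.RpushPreservesQCoh (X ↘ (Spec (CommRingCat.of k))))
    [DCoh.HasShriek (X ↘ (Spec (CommRingCat.of k))) h]
    (OY : DCoh.DQCoh (Spec (CommRingCat.of k)))
    (hOY : Nonempty (OY.obj ≅ DCoh.inD (Spec (CommRingCat.of k)) (Coh.structureModule (Spec (CommRingCat.of k)))))
    (hinv : PicF.IsInvertible (DCoh.dualizingMod (X ↘ (Spec (CommRingCat.of k))) h OY 1)) :
    IsDualizing k (DCoh.dualizingMod (X ↘ (Spec (CommRingCat.of k))) h OY 1) := by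
  haveI := H4RepDual.hasExtModules X
  exact ⟨hinv, H4RSH.SerreDual.exists_trace (DCoh.shriekAdj _ h) OY hOY (d := 1) (by exact_mod_cast hdim)⟩

theorem idl_support (J : X.IdealSheafData) [IsReduced J.subscheme] : J = idl J.support :=
  H14AlgSt.eq_vanishingIdeal_of_isReduced J

theorem deltaJ_idl (W : Closeds X) : deltaJ k (idl W) = delta k W := by
  have e : (⟨closure (((idl W).support : Set X)ᶜ), isClosed_closure⟩ : Closeds X) = compl W :=
    Closeds.ext (congrArg (fun S => closure Sᶜ) (Scheme.IdealSheafData.coe_support_vanishingIdeal W))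
  show (Module.finrank k (Coh.HH X (ClSub.quotMod (idl W ⊔ Scheme.IdealSheafData.vanishingIdeal
    ⟨closure (((idl W).support : Set X)ᶜ), isClosed_closure⟩)) 0) : ℤ) = _
  rw [e]
  rfl

include k in
theorem isPure_support (hdim : topologicalKrullDim X ≤ 1) (J : X.IdealSheafData) [IsReduced J.subscheme]
    [ConnectedSpace J.subscheme] (hJ : topologicalKrullDim J.subscheme = 1) : IsPure (J.support : Closeds X) := by
  haveI := H28Int.isNoetherian k (X := X)
  letI := overJ k J
  haveI : IsProper (J.subscheme ↘ Spec (CommRingCat.of k)) :=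
    inferInstanceAs (IsProper (J.subschemeι ≫ (X ↘ Spec (CommRingCat.of k))))
  haveI := H28Int.isNoetherian k (X := J.subscheme)
  intro x hx
  rw [← Scheme.IdealSheafData.range_subschemeι] at hx
  obtain ⟨y, rfl⟩ := hx
  have hy := isPure_top hJ (Set.mem_univ y)
  refine closure_mono ?_ (image_closure_subset_closure_image J.subschemeι.continuous ⟨y, hy, rfl⟩)
  rintro _ ⟨η, ⟨-, hη⟩, rfl⟩
  refine ⟨by rw [← SetLike.mem_coe, ← Scheme.IdealSheafData.range_subschemeι]; exact ⟨η, rfl⟩, fun hc => hη ?_⟩
  have := hc.preimage J.subschemeι.continuous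
  rwa [← Set.image_singleton, Set.preimage_image_eq _ J.subschemeι.isEmbedding.injective] at this

variable [IsReduced X] [ConnectedSpace X] (hdim : topologicalKrullDim X = 1) {ω : X.Modules}

include hdim in
/-- Adjunction for a connected subcurve. -/
theorem degJ_omega (hω : IsDualizing k ω) (J : X.IdealSheafData) [IsReduced J.subscheme]
    [ConnectedSpace J.subscheme] (hJ : topologicalKrullDim J.subscheme = 1) :
    degJ k J ω = -2 * @Curv2.euler k _ J.subscheme (overJ k J) (Coh.structureModule J.subscheme) + deltaJ k J := by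
  haveI := H28Int.isNoetherian k (X := X)
  obtain ⟨hω₁, t, ht⟩ := hω
  obtain ⟨W, rfl, hW⟩ : ∃ W : Closeds X, J = idl W ∧ IsPure W :=
    ⟨_, idl_support J, isPure_support (k := k) hdim.le J hJ⟩
  rw [deltaJ_idl]
  exact ((degW_eq_deg hω₁ W).symm.trans (degW_omega_delta t ht hω₁ hdim.le (isPure_top hdim) hW)).trans
    (by rw [euler_quot (k := k) W])

include hdim in
/-- The degree of the dualizing module. -/
theorem deg_omega (hω : IsDualizing k ω) :
    Curv2.deg k X ω 1 = -2 * Curv2.euler k X (Coh.structureModule X) := by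
  haveI := H28Int.isNoetherian k (X := X)
  obtain ⟨hω₁, t, ht⟩ := hω
  rw [H29RR.deg_def, euler_omega t ht hω₁ hdim.le]
  ring

include hdim in
/-- A proper subcurve meets the rest of the curve. -/
theorem deltaJ_pos (J : X.IdealSheafData) [IsReduced J.subscheme] [ConnectedSpace J.subscheme] (hne : J ≠ ⊥) :
    0 < deltaJ k J := by
  haveI := H28Int.isNoetherian k (X := X)
  obtain ⟨W, rfl⟩ : ∃ W : Closeds X, J = idl W := ⟨_, idl_support J⟩
  rw [deltaJ_idl]
  obtain ⟨x, hx, hx'⟩ : ((W : Set X) ∩ (compl W : Set X)).Nonempty := by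
    by_contra hcon
    rw [Set.not_nonempty_iff_eq_empty] at hcon
    have hcl : IsClopen (W : Set X) := ⟨W.isClosed, by
      rw [show (W : Set X) = (compl W : Set X)ᶜ from Set.ext fun y =>
        ⟨fun hy hy' => hcon.le ⟨hy, hy'⟩, fun hy => not_not.1 fun h => hy (mem_compl_of_notMem h)⟩]
      exact (compl W).isClosed.isOpen_compl⟩
    rcases isClopen_iff.1 hcl with h | h
    · obtain ⟨y⟩ : Nonempty (idl W).subscheme := inferInstance
      have : (idl W).subschemeι y ∈ (W : Set X) := by
        rw [← Scheme.IdealSheafData.coe_support_vanishingIdeal W, ← Scheme.IdealSheafData.range_subschemeι]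
        exact ⟨y, rfl⟩
      rw [h] at this
      exact this
    · exact hne (by
        rw [show W = ⊤ from Closeds.ext h, idl, Scheme.IdealSheafData.vanishingIdeal_top, Scheme.nilradical_eq_bot])
  exact delta_pos hdim.le (isPure_top hdim) hx hx'

omit [IsReduced X] [ConnectedSpace X] in
theorem degJ_tensor (hdim : topologicalKrullDim X ≤ 1) (J : X.IdealSheafData) {L M : X.Modules}
    (hL : PicF.IsInvertible L) (hM : PicF.IsInvertible M) :
    degJ k J (CohB1.tensorMod L M) = degJ k J L + degJ k J M := by
  letI := overJ k J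
  haveI : IsProper (J.subscheme ↘ Spec (CommRingCat.of k)) :=
    inferInstanceAs (IsProper (J.subschemeι ≫ (X ↘ Spec (CommRingCat.of k))))
  obtain ⟨e⟩ := H11Ample.exists_iso_pullback_tensor J.subschemeι hL hM
  show Curv2.deg k J.subscheme _ 1 = _
  rw [H27Prod.deg_congr k e, H27Prod.deg_tensor k
    (by exact_mod_cast (J.subschemeι.isEmbedding.isInducing.topologicalKrullDim_le).trans hdim)
    (H11Ample.isInvertible_pullback _ hL) (H11Ample.isInvertible_pullback _ hM)]

omit [IsReduced X] [ConnectedSpace X] in
theorem degJ_congr (J : X.IdealSheafData) {L M : X.Modules} (e : L ≅ M) : degJ k J L = degJ k J M := by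
  letI := overJ k J
  haveI : IsProper (J.subscheme ↘ Spec (CommRingCat.of k)) :=
    inferInstanceAs (IsProper (J.subschemeι ≫ (X ↘ Spec (CommRingCat.of k))))
  exact H27Prod.deg_congr k ((Scheme.Modules.pullback J.subschemeι).mapIso e)

omit [IsReduced X] [ConnectedSpace X] in
theorem degJ_tensorPow (hdim : topologicalKrullDim X ≤ 1) (J : X.IdealSheafData) {L : X.Modules}
    (hL : PicF.IsInvertible L) : ∀ n : ℕ, degJ k J (CohB1.tensorPow L n) = n * degJ k J L
  | 0 => by
    letI := overJ k J
    haveI : IsProper (J.subscheme ↘ Spec (CommRingCat.of k)) :=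
      inferInstanceAs (IsProper (J.subschemeι ≫ (X ↘ Spec (CommRingCat.of k))))
    rw [Nat.cast_zero, zero_mul]
    exact (H27Prod.deg_congr k (H16Derived.KFlat.Stalk.structurePullbackIso J.subschemeι)).trans
      (H27Prod.deg_structure k)
  | n + 1 => by
    show degJ k J (CohB1.tensorMod (CohB1.tensorPow L n) L) = _
    rw [degJ_tensor hdim J (H11Ample.isInvertible_tensorPow hL n) hL, degJ_tensorPow hdim J hL n]
    push_cast
    ring

omit [IsReduced X] [ConnectedSpace X] in
theorem finrank_h0_subcurve [IsAlgClosed k] (J : X.IdealSheafData) [IsReduced J.subscheme]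
    [ConnectedSpace J.subscheme] :
    letI := overJ k J
    Module.finrank k (Coh.HH J.subscheme (Coh.structureModule J.subscheme) 0) = 1 := by
  letI := overJ k J
  haveI : IsProper (J.subscheme ↘ Spec (CommRingCat.of k)) :=
    inferInstanceAs (IsProper (J.subschemeι ≫ (X ↘ Spec (CommRingCat.of k))))
  exact H29RR.finrank_h0_structure k J.subscheme

omit [IsReduced X] [ConnectedSpace X] in
/-- `χ = 1 - g` on a connected subcurve. -/
theorem euler_subcurve [IsAlgClosed k] (hdim : topologicalKrullDim X ≤ 1) (J : X.IdealSheafData)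
    [IsReduced J.subscheme] [ConnectedSpace J.subscheme] :
    @Curv2.euler k _ J.subscheme (overJ k J) (Coh.structureModule J.subscheme) =
      1 - (@Curv2.genus k _ J.subscheme (overJ k J) : ℤ) := by
  letI := overJ k J
  haveI : IsProper (J.subscheme ↘ Spec (CommRingCat.of k)) :=
    inferInstanceAs (IsProper (J.subschemeι ≫ (X ↘ Spec (CommRingCat.of k))))
  rw [H29RR.euler_eq_sub (k := k) ((J.subschemeι.isEmbedding.isInducing.topologicalKrullDim_le).trans hdim),
    finrank_h0_subcurve J]
  rfl

end Groth.Agent.H17.GorCurve
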