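import Groth.Agent.H17.GorCurve.Inter
import Groth.Agent.H17.GorCurve.Balanced
import Groth.Agent.H28Vert.VertGroup
import Groth.Agent.H29RR.Points
import Groth.Agent.H06Wedge.Scheme

/-!
# Degrees of the ideal of finitely many smooth points
-/

set_option autoImplicit false
set_option linter.style.haveILetI false
set_option linter.unusedSectionVars false
set_option backward.isDefEq.respectTransparency false
set_option synthInstance.maxHeartbeats 400000

universe u

open CategoryTheory CategoryTheory.Limits AlgebraicGeometry TopologicalSpace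
open Groth.Agent.H29CurveDual.Subcurve

namespace Groth.Agent.H17.GorCurve

attribute [local instance 10000] H10Coh.hasSheafifyAb H10Coh.hasWeakSheafifyAb H10Coh.hasExtAb H10Coh.enoughInjAb

variable {X : Scheme.{u}} [IsReduced X] [IsNoetherian X]

theorem coe_support_idl (S : Closeds X) : ((idl S).support : Set X) = (S : Set X) :=
  Scheme.IdealSheafData.coe_support_vanishingIdeal S

/-- The reduced ideal of finitely many regular closed points of a curve is an effective Cartier divisor. -/
theorem isEffCartierIdeal_idl {S : Closeds X} (_hfin : (S : Set X).Finite)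
    (hcl : ∀ z ∈ S, IsClosed ({z} : Set X))
    (hreg : ∀ z ∈ S, (IsLocalRing.maximalIdeal (X.presheaf.stalk z)).IsPrincipal ∧
      ringKrullDim (X.presheaf.stalk z) = 1) :
    BlowUp.IsEffCartierIdeal (idl S) := by
  refine H29Blow.isEffCartierIdeal_of_stalk _ fun y V hy => ?_
  by_cases hs : y ∈ (idl S).support
  swap
  · exact ⟨1, one_mem _, by rw [H29Blow.map_germ_eq_top_of_notMem_support _ y V hy hs, Ideal.span_singleton_one]⟩
  have hr : Set.range (idl S).subschemeι = (S : Set X) := by
    rw [Scheme.IdealSheafData.range_subschemeι, coe_support_idl]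
  obtain ⟨d, rfl⟩ : y ∈ Set.range (idl S).subschemeι := by
    rw [Scheme.IdealSheafData.range_subschemeι]; exact hs
  haveI : IsReduced (idl S).subscheme := H17.isReduced_vanishingIdeal_subscheme S
  have hd : d ∈ genericPoints (idl S).subscheme := H8Props.mem_genericPoints_iff.2 fun z hz => by
    have hc := (hcl _ (hr ▸ ⟨z, rfl⟩ : (idl S).subschemeι z ∈ (S : Set X))).preimage
      (idl S).subschemeι.continuous
    rw [← Set.image_singleton, Set.preimage_image_eq _ (idl S).subschemeι.isEmbedding.injective] at hc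
    exact (hc.closure_subset (specializes_iff_mem_closure.1 hz)).symm
  rw [← H29Blow.ker_stalkMap_subschemeι (idl S) d V hy]
  letI := (H17.isField_stalk_generic (idl S).subscheme hd inferInstance).toField
  have hmax := RingHom.ker_isMaximal_of_surjective ((idl S).subschemeι.stalkMap d).hom
    ((idl S).subschemeι.stalkMap_surjective d)
  rw [IsLocalRing.eq_maximalIdeal hmax]
  obtain ⟨h1, h2⟩ := hreg _ (hr ▸ ⟨d, rfl⟩ : (idl S).subschemeι d ∈ (S : Set X))
  obtain ⟨g, hg⟩ := h1
  haveI : IsRegularLocalRing (X.presheaf.stalk ((idl S).subschemeι d)) := by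
    refine IsRegularLocalRing.of_spanFinrank_maximalIdeal_le (R := X.presheaf.stalk ((idl S).subschemeι d)) ?_
    rw [h2]
    have h3 := H4Depth.spanFinrank_maximalIdeal_le_of_span (fun _ : Unit => g) {()}
      (by simpa using hg)
    exact_mod_cast h3
  haveI := H4Depth.isDomain_of_isRegularLocalRing (X.presheaf.stalk ((idl S).subschemeι d))
  refine ⟨g, mem_nonZeroDivisors_of_ne_zero fun hg0 => ?_, hg⟩
  have h0 : IsLocalRing.maximalIdeal (X.presheaf.stalk ((idl S).subschemeι d)) = ⊥ := by
    rw [hg, hg0, Ideal.submodule_span_eq, Ideal.span_singleton_eq_bot]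
  rw [ringKrullDim_eq_zero_of_isField (IsLocalRing.isField_iff_maximalIdeal_eq.2 h0)] at h2
  exact absurd h2 (by norm_num)

variable {k : Type u} [Field k] [X.Over (Spec (CommRingCat.of k))] [IsProper (X ↘ Spec (CommRingCat.of k))]

/-- The local ring at a smooth closed point of a curve. -/
theorem reg_of_smooth [IsAlgClosed k] (hequi : ∀ Z ∈ irreducibleComponents (X : Type u), topologicalKrullDim Z = 1) {z : X}
    (hz : IsClosed ({z} : Set X)) (h : ∃ U : X.Opens, z ∈ U ∧ Smooth (U.ι ≫ (X ↘ Spec (CommRingCat.of k)))) :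
    (IsLocalRing.maximalIdeal (X.presheaf.stalk z)).IsPrincipal ∧ ringKrullDim (X.presheaf.stalk z) = 1 := by
  haveI := H06NormCurve.isRegularLocalRing_of_smooth_nhd (k := k) h
  have h1 := H06Wedge.ringKrullDim_stalk_of_pure_one (K := k) hequi hz
  refine ⟨?_, h1⟩
  have h2 := (IsRegularLocalRing.iff_finrank_cotangentSpace (R := X.presheaf.stalk z)).1 ‹_›
  rw [h1] at h2
  have h3 : (IsLocalRing.maximalIdeal (X.presheaf.stalk z)).spanFinrank = 1 := by
    rw [IsLocalRing.spanFinrank_maximalIdeal_eq_finrank_cotangentSpace]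
    exact_mod_cast h2
  exact ((Submodule.spanFinrank_eq_one_iff _).1 h3).1

/-- The degree on a closed set missing the points vanishes. -/
theorem degW_idl_eq_zero {S : Closeds X} (hI : BlowUp.IsEffCartierIdeal (idl S)) {W : Closeds X}
    (h : ∀ z ∈ W, z ∉ S) : degW k W (ClSub.idealMod (idl S)) = 0 := by
  letI := overW k W
  haveI : IsProper ((idl W).subscheme ↘ Spec (CommRingCat.of k)) :=
    inferInstanceAs (IsProper ((idl W).subschemeι ≫ (X ↘ Spec (CommRingCat.of k))))
  rw [degW_eq_deg (H29Blow.isInvertible_of_isEffCartierIdeal _ hI)]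
  obtain ⟨e⟩ := H28Vert.nonempty_pullback_idealMod (idl W).subschemeι hI fun c hc => h _ (by
    rw [← SetLike.mem_coe, ← coe_support_idl W, ← Scheme.IdealSheafData.range_subschemeι]
    exact ⟨c, rfl⟩) (by rwa [← SetLike.mem_coe, ← coe_support_idl S])
  exact (H27Prod.deg_congr k e).trans (H27Prod.deg_structure k)

/-- The degree of the ideal of finitely many points on the whole curve. -/
theorem deg_idl [IsAlgClosed k] (hdim : topologicalKrullDim X ≤ 1) {S : Closeds X} (hfin : (S : Set X).Finite)
    (hcl : ∀ z ∈ S, IsClosed ({z} : Set X)) :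
    Curv2.deg k X (ClSub.idealMod (idl S)) 1 = -((S : Set X).ncard : ℤ) := by
  haveI := H10Coh.epi_toSubscheme (idl S)
  have hQ : Coh.IsCoh (ClSub.quotMod (idl S)) := LeadDev.isCoh_push_structure (idl S).subschemeι
  have hI : Coh.IsCoh (ClSub.idealMod (idl S)) :=
    H10Coh.isCoh_kernel _ (H10Coh.isCoh_structureModule' X) hQ.1
  have h := H25Euler.euler_add (k := k) (H10Coh.shortExact_kernel (ClSub.toSubscheme (idl S))) hI
    (H10Coh.isCoh_structureModule' X) hQ
  have h' : Curv2.euler k X (Coh.structureModule X) = Curv2.euler k X (ClSub.idealMod (idl S)) +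
      Curv2.euler k X (ClSub.quotMod (idl S)) := h
  have hq : Curv2.euler k X (ClSub.quotMod (idl S)) = ((S : Set X).ncard : ℤ) := by
    obtain ⟨-, -, h1⟩ := subsingleton_HH_one hQ fun η hη => not_not.1 fun hs => hη (hcl η (by
      have := (mem_support_quot (idl S)).le hs
      rwa [coe_support_idl] at this))
    rw [H29RR.euler_eq_sub (k := k) hdim, finrank_h0_quot_finite (k := k) S hfin hcl,
      Module.finrank_zero_of_subsingleton (R := k) (M := Coh.HH X (ClSub.quotMod (idl S)) 1)]
    simp
  rw [H29RR.deg_def]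
  omega

/-- The degree of the ideal of finitely many smooth points on a pure closed set. -/
theorem degW_idl [IsAlgClosed k] (hdim : topologicalKrullDim X ≤ 1) (hp : IsPure (⊤ : Closeds X))
    {S : Closeds X} (hfin : (S : Set X).Finite) (hcl : ∀ z ∈ S, IsClosed ({z} : Set X))
    (hreg : ∀ z ∈ S, (IsLocalRing.maximalIdeal (X.presheaf.stalk z)).IsPrincipal ∧
      ringKrullDim (X.presheaf.stalk z) = 1)
    (hdom : ∀ z ∈ S, IsDomain (X.presheaf.stalk z)) {W : Closeds X} (hW : IsPure W) :
    degW k W (ClSub.idealMod (idl S)) = -(((S : Set X) ∩ W).ncard : ℤ) := by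
  let S₁ : Closeds X := S ⊓ W
  let S₂ : Closeds X := S ⊓ compl W
  have sub₁ : (S₁ : Set X) ⊆ S := fun z hz => hz.1
  have sub₂ : (S₂ : Set X) ⊆ S := fun z hz => hz.1
  have hdis : ∀ z ∈ S, z ∈ W → z ∉ compl W := fun z hz h1 h2 =>
    not_isDomain_of_mem_inter hdim hp hW h1 h2 (hdom z hz)
  have heff : ∀ {T : Closeds X}, (T : Set X) ⊆ S → BlowUp.IsEffCartierIdeal (idl T) := fun {T} hT =>
    isEffCartierIdeal_idl (hfin.subset hT) (fun z hz => hcl z (hT hz)) fun z hz => hreg z (hT hz)
  have hinv : ∀ {T : Closeds X}, (T : Set X) ⊆ S → PicF.IsInvertible (ClSub.idealMod (idl T)) := fun {T} hT =>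
    H29Blow.isInvertible_of_isEffCartierIdeal _ (heff hT)
  have hdisj : ∀ z, z ∈ (S₁ : Set X) → z ∉ (S₂ : Set X) := fun z h h' => hdis z h.1 h.2 h'.2
  have hU : S₁ ⊔ S₂ = S := Closeds.ext (Set.ext fun z => ⟨fun h => h.elim (·.1) (·.1), fun h => by
    by_cases hz : z ∈ W
    exacts [Or.inl ⟨h, hz⟩, Or.inr ⟨h, mem_compl_of_notMem hz⟩]⟩)
  have htop : idl S₁ ⊔ idl S₂ = ⊤ := by
    refine (Scheme.IdealSheafData.support_eq_bot_iff _).1 (Closeds.ext ?_)
    rw [Scheme.IdealSheafData.support_sup, Closeds.coe_inf, coe_support_idl, coe_support_idl, Closeds.coe_bot]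
    exact Set.eq_empty_of_forall_notMem fun z hz => hdisj z hz.1 hz.2
  have hmul : idl S₁ * idl S₂ = idl S := by
    rw [← hU, idl, idl, idl, Scheme.IdealSheafData.vanishingIdeal_sup]
    ext1
    funext U
    rw [Scheme.IdealSheafData.ideal_mul, Pi.mul_apply, Scheme.IdealSheafData.ideal_inf, Pi.inf_apply]
    refine Ideal.mul_eq_inf_of_isCoprime (Ideal.isCoprime_iff_sup_eq.2 ?_)
    have h := congrArg (fun I : X.IdealSheafData => I.ideal U) htop
    simpa only [Scheme.IdealSheafData.ideal_sup, Pi.sup_apply, Scheme.IdealSheafData.ideal_top, Pi.top_apply] using h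
  obtain ⟨em⟩ := H28Vert.nonempty_idealMod_mul (heff sub₁) (heff sub₂)
  rw [hmul] at em
  have h1 := degW_add_compl (k := k) hdim hp (hinv sub₁) W
  have h2 : degW k W (ClSub.idealMod (idl S)) =
      degW k W (ClSub.idealMod (idl S₁)) + degW k W (ClSub.idealMod (idl S₂)) := by
    rw [← degW_congr em, degW_tensor hdim (hinv sub₁) (hinv sub₂)]
  have h3 : degW k (compl W) (ClSub.idealMod (idl S₁)) = 0 :=
    degW_idl_eq_zero (heff sub₁) fun z hzc hz => hdis z hz.1 hz.2 hzc
  have h4 : degW k W (ClSub.idealMod (idl S₂)) = 0 :=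
    degW_idl_eq_zero (heff sub₂) fun z hzW hz => hdis z hz.1 hzW hz.2
  rw [deg_idl (k := k) hdim (hfin.subset sub₁) fun z hz => hcl z hz.1] at h1
  have e : (S₁ : Set X) = (S : Set X) ∩ W := Closeds.coe_inf _ _
  rw [← e]
  omega

end Groth.Agent.H17.GorCurve
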