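import Groth.Agent.H17.GorCurve.Basic

/-!
# The degree of the dualizing module on a subcurve

`deg (ω|W) = -2 χ(O_W) + δ(W)`, where `δ(W)` is the length of the intersection of `W` with the closure of
its complement, and `δ(W) > 0` when that intersection is non-empty.
-/

set_option autoImplicit false
set_option linter.style.haveILetI false
set_option linter.unusedSectionVars false
set_option backward.isDefEq.respectTransparency false
set_option synthInstance.maxHeartbeats 400000

universe u

open CategoryTheory CategoryTheory.Limits AlgebraicGeometry TopologicalSpace Opposite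
open Groth.Agent.H29RR Groth.Agent.H06Mod Groth.Agent.H29CurveDual Groth.Agent.H29CurveDual.Subcurve

namespace Groth.Agent.H17.GorCurve

attribute [local instance 10000] H10Coh.hasSheafifyAb H10Coh.hasWeakSheafifyAb H10Coh.hasExtAb H10Coh.enoughInjAb
attribute [local instance] homModule

variable {X : Scheme.{u}} [IsReduced X] [IsNoetherian X]

/-- Restrictions of invertible modules to pure closed sets have no associated closed points. -/
theorem not_isClosed_of_ass {L : X.Modules} (hL : PicF.IsInvertible L) {W : Closeds X}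
    (hW : IsPure W) {x : X} (hx : x ∈ AssSch.Ass (res L W)) : ¬ IsClosed ({x} : Set X) := fun hcl => by
  obtain ⟨V, -, hxV, s, -, hs, hkill⟩ := H17.AssPts.exists_section_of_ass (res L W) hx (O := ⊤) trivial
  refine hs ?_
  rw [res_section_eq_zero hL hW s fun η hηV hη => ?_, map_zero]
  obtain ⟨a, hηa, -, n, hn⟩ := hkill η hηV fun hsp => hη (by
    obtain rfl : η = x := hcl.closure_subset (specializes_iff_mem_closure.1 hsp)
    exact hcl)
  exact H17.AssPts.germ_eq_zero_of_smul (res L W) hηV (t := a ^ n)
    ((H17.AssPts.isUnit_germ_iff hηV (a ^ n)).1 (by rw [map_pow]; exact ((H17.AssPts.isUnit_germ_iff hηV a).2 hηa).pow n)) hn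

variable {k : Type u} [Field k] [X.Over (Spec (CommRingCat.of k))]

/-- The degree of an invertible module on a closed set, computed on the ambient scheme. -/
noncomputable def degW (k : Type u) [Field k] [X.Over (Spec (CommRingCat.of k))] (W : Closeds X) (L : X.Modules) : ℤ :=
  Curv2.euler k X (res L W) - Curv2.euler k X (ClSub.quotMod (idl W))

/-- The length of the intersection with the complementary curve. -/
noncomputable def delta (k : Type u) [Field k] [X.Over (Spec (CommRingCat.of k))] (W : Closeds X) : ℤ :=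
  (Module.finrank k (Coh.HH X (ClSub.quotMod (idl W ⊔ idl (compl W))) 0) : ℤ)

variable [IsProper (X ↘ Spec (CommRingCat.of k))]

theorem degW_eq_deg {L : X.Modules} (hL : PicF.IsInvertible L) (W : Closeds X) :
    degW k W L = @Curv2.deg k _ (idl W).subscheme (overW k W)
      ((Scheme.Modules.pullback (idl W).subschemeι).obj L) 1 := by
  letI := overW k W
  rw [degW, euler_res hL W, euler_quot (k := k) W, H29RR.deg_def]

theorem degW_congr {L M : X.Modules} (e : L ≅ M) (W : Closeds X) : degW k W L = degW k W M := by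
  rw [degW, degW, H25Euler.euler_congr (k := k) (PicGrp.tensorModIso (Iso.refl (ClSub.quotMod (idl W))) e)]

theorem dim_idl_le (hdim : topologicalKrullDim X ≤ 1) (W : Closeds X) :
    topologicalKrullDim (idl W).subscheme ≤ 1 :=
  ((idl W).subschemeι.isEmbedding.isInducing.topologicalKrullDim_le).trans hdim

theorem degW_tensor (hdim : topologicalKrullDim X ≤ 1) {L M : X.Modules} (hL : PicF.IsInvertible L)
    (hM : PicF.IsInvertible M) (W : Closeds X) :
    degW k W (CohB1.tensorMod L M) = degW k W L + degW k W M := by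
  letI := overW k W
  haveI : IsProper ((idl W).subscheme ↘ Spec (CommRingCat.of k)) :=
    inferInstanceAs (IsProper ((idl W).subschemeι ≫ (X ↘ Spec (CommRingCat.of k))))
  obtain ⟨e⟩ := H11Ample.exists_iso_pullback_tensor (idl W).subschemeι hL hM
  rw [degW_eq_deg (H11Ample.isInvertible_tensor hL hM), degW_eq_deg hL, degW_eq_deg hM,
    H27Prod.deg_congr k e, H27Prod.deg_tensor k (by exact_mod_cast dim_idl_le hdim W)
      (H11Ample.isInvertible_pullback _ hL) (H11Ample.isInvertible_pullback _ hM)]

theorem degW_tensorPow (hdim : topologicalKrullDim X ≤ 1) {L : X.Modules} (hL : PicF.IsInvertible L) (W : Closeds X) :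
    ∀ n : ℕ, degW k W (CohB1.tensorPow L n) = n * degW k W L
  | 0 => by
    rw [Nat.cast_zero, zero_mul]
    exact sub_eq_zero.2 (H25Euler.euler_congr (H10Coh.Tw.rightUnitIso _))
  | n + 1 => by
    show degW k W (CohB1.tensorMod (CohB1.tensorPow L n) L) = _
    rw [degW_tensor hdim (H11Ample.isInvertible_tensorPow hL n) hL, degW_tensorPow hdim hL W n]
    push_cast
    ring

theorem degX_tensorPow (hdim : topologicalKrullDim X ≤ 1) {L : X.Modules} (hL : PicF.IsInvertible L) :
    ∀ n : ℕ, Curv2.deg k X (CohB1.tensorPow L n) 1 = n * Curv2.deg k X L 1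
  | 0 => by
    rw [Nat.cast_zero, zero_mul]
    exact H27Prod.deg_structure k
  | n + 1 => by
    show Curv2.deg k X (CohB1.tensorMod (CohB1.tensorPow L n) L) 1 = _
    rw [H27Prod.deg_tensor k (by exact_mod_cast hdim) (H11Ample.isInvertible_tensorPow hL n) hL,
      degX_tensorPow hdim hL n]
    push_cast
    ring

variable {ω : X.Modules} (t : Coh.HH X ω 1 →ₗ[k] k)
  (ht : ∀ G : X.Modules, Coh.IsQCoh G → ∀ ψ : Coh.HH X G 1 →ₗ[k] k, ∃! φ : G ⟶ ω, t ∘ₗ Canon.HHlin k φ 1 = ψ)

include ht in
theorem finrank_h1 {G : X.Modules} (hG : Coh.IsCoh G) :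
    Module.finrank k (Coh.HH X G 1) = Module.finrank k (G ⟶ ω) := by
  haveI := H10Coh.finite_HH_proper k X G hG 1
  rw [finrank_hom_dual t (E := G) (fun ψ => ?_), Subspace.dual_finrank_eq]
  obtain ⟨φ, hφ, hu⟩ := ht G hG.1 ψ
  exact ⟨φ, hφ.symm, fun φ' h' => hu φ' h'.symm⟩

variable (hω : PicF.IsInvertible ω) (hdim : topologicalKrullDim X ≤ 1) (hp : IsPure (⊤ : Closeds X))

include ht hω hdim in
/-- `χ(ω) = -χ(O)`. -/
theorem euler_omega : Curv2.euler k X ω = -Curv2.euler k X (Coh.structureModule X) := by
  obtain ⟨N, hN, ⟨e⟩⟩ := exists_inverse_comm hω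
  have h1 : Module.finrank k (Coh.HH X ω 1) = Module.finrank k (Coh.HH X (Coh.structureModule X) 0) := by
    rw [finrank_h1 t ht (H11Ample.isCoh_of_isInvertible hω), finrank_hom_invertible k hN e]
    exact (hhIso (k := k) e 0).finrank_eq
  have h2 : Module.finrank k (Coh.HH X (Coh.structureModule X) 1) = Module.finrank k (Coh.HH X ω 0) := by
    rw [finrank_h1 t ht (H10Coh.isCoh_structureModule' X), finrank_hom_structure]
  rw [H29RR.euler_eq_sub (k := k) hdim, H29RR.euler_eq_sub (k := k) hdim, h1, h2]
  ring

include ht hω hdim hp in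
/-- The degree of the dualizing module on a pure closed set. -/
theorem degW_omega {W : Closeds X} (hW : IsPure W) :
    degW k W ω = Curv2.euler k X (ClSub.quotMod (idl (compl W))) - Curv2.euler k X (Coh.structureModule X) -
      Curv2.euler k X (ClSub.quotMod (idl W)) := by
  obtain ⟨A, hA⟩ := H22Alg.CurveProj.exists_ample k X hdim
  have hAi := H11Ample.isInvertible_of_isAmple hA
  obtain ⟨B, hB, ⟨eAB⟩⟩ := exists_inverse_comm hAi
  have hF : Coh.IsCoh (res ω W) := isCoh_res hω W
  obtain ⟨n₁, hn₁⟩ := H22Alg.NegTwist.exists_subsingleton k hA (M := B) ⟨eAB⟩ hF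
    fun x hx => not_isClosed_of_ass hω hW hx
  have hI : Coh.IsCoh (ClSub.idealMod (idl (compl W))) :=
    H10Coh.isCoh_kernel _ (H10Coh.isCoh_structureModule' X) (LeadDev.isCoh_push_structure (idl (compl W)).subschemeι).1
  obtain ⟨n₂, hn₂⟩ := H10Coh.Tw.exists_vanishing_ample (X ↘ Spec (CommRingCat.of k)) hA _ hI
  have key : ∀ n, n₁ ≤ n → n₂ ≤ n →
      degW k W ω - n * degW k W A + Curv2.euler k X (ClSub.quotMod (idl W)) =
        n * degW k (compl W) A + Curv2.euler k X (ClSub.quotMod (idl (compl W))) -
          (n * Curv2.deg k X A 1 + Curv2.euler k X (Coh.structureModule X)) := by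
    intro n h₁ h₂
    let An := CohB1.tensorPow A n
    let Bn := CohB1.tensorPow B n
    have hAn : PicF.IsInvertible An := H11Ample.isInvertible_tensorPow hAi n
    have hBn : PicF.IsInvertible Bn := H11Ample.isInvertible_tensorPow hB n
    let L := CohB1.tensorMod ω Bn
    have hL : PicF.IsInvertible L := H11Ample.isInvertible_tensor hω hBn
    obtain ⟨L', hL', ⟨eL⟩⟩ := exists_inverse_comm hL
    obtain ⟨eP⟩ := H10Coh.Tw.nonempty_tensorPow_inverse eAB hAi hB n
    let eM : CohB1.tensorMod ω L' ≅ An :=
      (H10Coh.Tw.rightUnitIso _).symm ≪≫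
        PicGrp.tensorModIso (Iso.refl _) (eP.symm ≪≫ H10Coh.Tw.commIso _ _) ≪≫
        (H10Coh.Tw.assoc _ _ _).symm ≪≫
        PicGrp.tensorModIso
          (H10Coh.Tw.assoc _ _ _ ≪≫ PicGrp.tensorModIso (Iso.refl ω) (H10Coh.Tw.commIso L' Bn) ≪≫
            (H10Coh.Tw.assoc _ _ _).symm ≪≫ eL) (Iso.refl An) ≪≫
        H10Coh.Tw.leftUnitIso An
    let eR : res L W ≅ CohB1.tensorMod (res ω W) Bn := (H10Coh.Tw.assoc _ _ _).symm
    have z0 : Module.finrank k (Coh.HH X (res L W) 0) = 0 := by
      rw [(hhIso (k := k) eR 0).finrank_eq]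
      haveI := hn₁ n h₁
      exact Module.finrank_zero_of_subsingleton
    let K := CohB1.tensorMod (ClSub.idealMod (idl (compl W))) An
    have z1 : Module.finrank k (Coh.HH X K 1) = 0 := by
      haveI := (H10Coh.HHEquiv K 1).toEquiv.subsingleton_congr.2 (hn₂ n h₂ 1 one_pos)
      exact Module.finrank_zero_of_subsingleton
    have hdual : Module.finrank k (Coh.HH X (res L W) 1) = Module.finrank k (Coh.HH X K 0) := by
      rw [finrank_h1 t ht (isCoh_res hL W), finrank_hom_res hdim hp hL hL' eL hω W]
      exact (hhIso (k := k) (PicGrp.tensorModIso (Iso.refl _) eM) 0).finrank_eq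
    have hs := euler_split (k := k) hdim hAn (compl W)
    have e1 := H29RR.euler_eq_sub (k := k) hdim (res L W)
    have e2 := H29RR.euler_eq_sub (k := k) hdim K
    have hd : Curv2.deg k X An 1 = _ := degX_tensorPow (k := k) hdim hAi n
    rw [H29RR.deg_def] at hd
    have hw : degW k (compl W) An = _ := degW_tensorPow (k := k) hdim hAi (compl W) n
    have hv : degW k W L = _ := degW_tensor (k := k) hdim hω hBn W
    have hb : degW k W Bn + n * degW k W A = 0 := by
      rw [← degW_tensorPow (k := k) hdim hAi W n, ← degW_tensor (k := k) hdim hBn hAn W,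
        degW_congr (k := k) (H10Coh.Tw.commIso Bn An ≪≫ eP) W]
      exact sub_eq_zero.2 (H25Euler.euler_congr (H10Coh.Tw.rightUnitIso _))
    have q : Curv2.euler k X (res L W) + Curv2.euler k X K = 0 := by
      rw [e1, e2, z0, z1, hdual]
      push_cast
      ring
    simp only [degW, L, K, An, Bn] at hw hv hb hs hd q ⊢
    linarith
  obtain ⟨m, h₁, h₂⟩ : ∃ m, n₁ ≤ m ∧ n₂ ≤ m := ⟨max n₁ n₂, le_max_left _ _, le_max_right _ _⟩
  have k1 := key m h₁ h₂
  have k2 := key (m + 1) (h₁.trans (Nat.le_succ _)) (h₂.trans (Nat.le_succ _))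
  push_cast at k2
  linear_combination (m : ℤ) * (k1 - k2) + k1

include hdim hp in
/-- The Euler characteristics of the restrictions to a closed set and its complementary curve. -/
theorem euler_res_compl {M : X.Modules} (hO : PicF.IsInvertible M) (W : Closeds X) :
    Curv2.euler k X (res M W) + Curv2.euler k X (res M (compl W)) =
      Curv2.euler k X M + delta k W := by
  let Z := idl (compl W)
  obtain ⟨e0⟩ := nonempty_sub_invertible_iso Z hO
  haveI := epi_proj hO W
  let b := subMap Z (proj M W)
  haveI : Epi b := epi_subMap Z _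
  haveI : Mono b := by
    refine Preadditive.mono_of_kernel_zero ((cancel_mono (subι Z M)).1 ?_)
    rw [zero_comp]
    refine hom_eq_zero_of_nonclosed hp hO _ fun η hη => ?_
    by_cases hηW : η ∈ W
    · refine LinearMap.ext fun a => (bijective_stalk_proj hdim hO hη hηW).1 ?_
      rw [LinearMap.zero_apply, map_zero, ← LinearMap.comp_apply, ← ModuleCat.hom_comp, ← Functor.map_comp,
        Category.assoc, ← subMap_ι, ← Category.assoc, kernel.condition, zero_comp, Functor.map_zero]
      rfl
    · have hc : η ∈ compl W := mem_compl_of_notMem hηW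
      haveI hs : Subsingleton ((ClSub.idealMod Z).presheaf.stalk η) := by
        have hb := bijective_stalk_proj hdim H11Ample.isInvertible_structureModule (L := Coh.structureModule X) hη hc
        haveI := H10Coh.epi_toSubscheme Z
        refine ⟨fun a b => ?_⟩
        haveI : Mono (ClSub.idealModι Z) := inferInstanceAs (Mono (kernel.ι _))
        refine ((ModuleCat.mono_iff_injective ((DerSch.stalkFunctor X η).map (ClSub.idealModι Z))).1
          inferInstance) (hb.1 ?_)
        have h0 : ClSub.idealModι Z ≫ proj (Coh.structureModule X) (compl W) = 0 := by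
          have hO := H11Ample.isInvertible_structureModule (X := X)
          have h : ClSub.idealModι Z ≫ ClSub.toSubscheme Z = 0 := kernel.condition _
          refine hom_res_eq_zero hO (isPure_compl hp W) _ fun z hz hzc => ?_
          haveI : Subsingleton ((DerSch.stalkFunctor X z).obj (ClSub.idealMod Z)) := by
            refine ⟨fun a b => ((ModuleCat.mono_iff_injective ((DerSch.stalkFunctor X z).map (ClSub.idealModι Z))).1
              inferInstance) ((bijective_stalk_of_epi hdim hO (ClSub.toSubscheme Z) hzc ?_).1 ?_)⟩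
            · exact not_subsingleton_iff_nontrivial.1 ((mem_support_quot Z).ge (by
                rw [Scheme.IdealSheafData.coe_support_vanishingIdeal]; exact hz))
            · rw [← LinearMap.comp_apply, ← LinearMap.comp_apply, ← ModuleCat.hom_comp, ← Functor.map_comp, h,
                Functor.map_zero]
              rfl
          exact LinearMap.ext fun a => by rw [Subsingleton.elim a 0, map_zero, map_zero]
        rw [← LinearMap.comp_apply, ← LinearMap.comp_apply, ← ModuleCat.hom_comp, ← Functor.map_comp, h0,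
          Functor.map_zero]
        rfl
      haveI : Subsingleton ((sub Z M).presheaf.stalk η) := by
        haveI : Subsingleton ((DerSch.stalkFunctor X η).obj
            (CohB1.tensorMod (ClSub.idealMod Z) M)) :=
          not_not.1 fun h => H25Euler.support_tensor_subset (ClSub.idealMod Z) M h hs
        exact (((DerSch.stalkFunctor X η).mapIso e0).toLinearEquiv).symm.injective.subsingleton
      refine LinearMap.ext fun a => ?_
      rw [Functor.map_comp, ModuleCat.hom_comp, LinearMap.comp_apply]
      refine (congrArg ((DerSch.stalkFunctor X η).map (subι Z M)).hom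
        (Subsingleton.elim (α := (sub Z M).presheaf.stalk η) _ 0)).trans (map_zero _)
  haveI : IsIso b := isIso_of_mono_of_epi b
  let R := res M W
  haveI := epi_resProj Z R
  obtain ⟨eq⟩ := H28Vert.nonempty_quotTensorIso (idl W) Z
  have eD : ParSh.resD Z R ≅ CohB1.tensorMod (ClSub.quotMod (idl W ⊔ Z)) M :=
    H10Coh.Tw.assoc _ _ _ ≪≫ PicGrp.tensorModIso (Iso.refl _) (H10Coh.Tw.commIso M (ClSub.quotMod Z)) ≪≫
      (H10Coh.Tw.assoc _ _ _).symm ≪≫ PicGrp.tensorModIso eq (Iso.refl M)
  have hQ : Coh.IsCoh (ClSub.quotMod (idl W ⊔ Z)) := LeadDev.isCoh_push_structure (idl W ⊔ Z).subschemeι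
  obtain ⟨hfin, hcl, h1⟩ := subsingleton_HH_one (M := ClSub.quotMod (idl W ⊔ Z)) hQ fun η hη =>
    not_not.1 fun h => (mem_iff_notMem_compl hdim hp W hη).1
      (by
        have := Scheme.IdealSheafData.support_antitone (le_sup_left : idl W ≤ idl W ⊔ Z) ((mem_support_quot _).le h)
        rwa [← SetLike.mem_coe, Scheme.IdealSheafData.coe_support_vanishingIdeal] at this)
      (by
        have := Scheme.IdealSheafData.support_antitone (le_sup_right : Z ≤ idl W ⊔ Z) ((mem_support_quot _).le h)
        rwa [← SetLike.mem_coe, Scheme.IdealSheafData.coe_support_vanishingIdeal] at this)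
  have hR : Coh.IsCoh R := isCoh_res hO W
  have h := H25Euler.euler_add (k := k) (H10Coh.shortExact_kernel (H25Par.resProj Z R))
    (isCoh_sub Z hR) hR (H10Coh.isCoh_of_iso eD.symm (H11Ample.isCoh_tensor hQ hO))
  have h' : Curv2.euler k X R = Curv2.euler k X (sub Z R) + Curv2.euler k X (ParSh.resD Z R) := h
  rw [H25Euler.euler_congr eD, ← H25Euler.euler_congr (k := k) (e0 ≪≫ asIso b),
    H25Euler.euler_eq_sum (CohB1.tensorMod (ClSub.quotMod (idl W ⊔ Z)) M) 1 fun p hp =>
      H25Par.subsingleton_HH_of_finite_support _ (hfin.subset (H25Euler.support_tensor_subset _ M))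
        (fun z hz => hcl z (H25Euler.support_tensor_subset _ M hz)) (fun y hy => not_not.1 hy) hp,
    Finset.sum_range_one, pow_zero, one_mul, H29RR.finrank_h0_tensor_of_finite_support hO hfin hcl] at h'
  have hs := euler_split (k := k) hdim hO (compl W)
  simp only [delta, Z, R] at *
  omega

include hdim hp in
/-- The Euler characteristics of a closed set and its complementary curve. -/
theorem euler_compl {W : Closeds X} :
    Curv2.euler k X (ClSub.quotMod (idl W)) + Curv2.euler k X (ClSub.quotMod (idl (compl W))) =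
      Curv2.euler k X (Coh.structureModule X) + delta k W := by
  have h := euler_res_compl (k := k) hdim hp (H11Ample.isInvertible_structureModule (X := X)) W
  rwa [H25Euler.euler_congr (k := k) (H10Coh.Tw.rightUnitIso (ClSub.quotMod (idl W))),
    H25Euler.euler_congr (k := k) (H10Coh.Tw.rightUnitIso (ClSub.quotMod (idl (compl W))))] at h

include hdim hp in
/-- The degree splits between a closed set and its complementary curve. -/
theorem degW_add_compl {M : X.Modules} (hM : PicF.IsInvertible M) (W : Closeds X) :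
    degW k W M + degW k (compl W) M = Curv2.deg k X M 1 := by
  have h1 := euler_res_compl (k := k) hdim hp hM W
  have h2 := euler_compl (k := k) hdim hp (W := W)
  rw [H29RR.deg_def]
  simp only [degW]
  omega

include ht hω hdim hp in
/-- `deg (ω|W) = -2 χ(O_W) + δ(W)`. -/
theorem degW_omega_delta {W : Closeds X} (hW : IsPure W) :
    degW k W ω = -2 * Curv2.euler k X (ClSub.quotMod (idl W)) + delta k W := by
  have := euler_compl (k := k) hdim hp (W := W)
  rw [degW_omega t ht hω hdim hp hW]
  omega

/-- The intersection contributes when it is non-empty. -/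
theorem delta_pos (hdim : topologicalKrullDim X ≤ 1) (hp : IsPure (⊤ : Closeds X)) {W : Closeds X} {x : X}
    (hx : x ∈ W) (hx' : x ∈ compl W) : 0 < delta k W := by
  let Q := ClSub.quotMod (idl W ⊔ idl (compl W))
  have hQ : Coh.IsCoh Q := LeadDev.isCoh_push_structure (idl W ⊔ idl (compl W)).subschemeι
  have hsupp : ∀ y : X, y ∈ CohB1.support Q ↔ y ∈ W ∧ y ∈ compl W := fun y => by
    rw [mem_support_quot, Scheme.IdealSheafData.support_sup, Closeds.coe_inf, Set.mem_inter_iff,
      Scheme.IdealSheafData.coe_support_vanishingIdeal, Scheme.IdealSheafData.coe_support_vanishingIdeal]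
    rfl
  obtain ⟨hfin, hcl, -⟩ := subsingleton_HH_one hQ fun η hη => not_not.1 fun h =>
    (mem_iff_notMem_compl hdim hp W hη).1 ((hsupp η).1 h).1 ((hsupp η).1 h).2
  haveI := H10Coh.finite_HH_proper k X Q hQ 0
  have hxQ := (hsupp x).2 ⟨hx, hx'⟩
  haveI : Nontrivial (Coh.HH X Q 0) := by
    classical
    have hb := H25Par.germs_bijective (k := k) Q hfin hcl (fun y hy => not_not.1 hy)
    haveI : Nontrivial (H25Par.Stk k Q x) := not_subsingleton_iff_nontrivial.1 hxQ
    obtain ⟨v, hv⟩ := exists_ne (0 : H25Par.Stk k Q x)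
    obtain ⟨w, hw⟩ := hb.2 (Function.update 0 ⟨x, hxQ⟩ v)
    refine ⟨⟨w, 0, fun h0 => hv ?_⟩⟩
    have h1 := congrFun hw ⟨x, hxQ⟩
    rw [Function.update_self, h0, map_zero] at h1
    exact h1.symm
  have : 0 < Module.finrank k (Coh.HH X Q 0) := Module.finrank_pos
  simp only [delta]
  exact_mod_cast this

end Groth.Agent.H17.GorCurve
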