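import Groth.Agent.H4RSH.Gorenstein
import Groth.Agent.H4RSH.ProperField
import Groth.Agent.S3637
import Groth.Agent.H17.GorCurve.Curve
import Groth.Agent.S1589

/-!
# The dualizing module of a Gorenstein curve is invertible

Nodal curves are reduced and Gorenstein, so their dualizing modules are dualizing in the sense of
`GorCurve.IsDualizing`.
-/

set_option autoImplicit false
set_option linter.style.haveILetI false
set_option linter.unusedSectionVars false
set_option backward.isDefEq.respectTransparency false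
set_option synthInstance.maxHeartbeats 400000
set_option maxHeartbeats 1000000

universe u

open CategoryTheory CategoryTheory.Limits AlgebraicGeometry TopologicalSpace
open scoped TensorProduct
open Groth.Agent.H16Derived.KFlat.Stalk (rd rdComp homologyRdIso)
open Groth.Agent.H4DR.Dualizing (Loc loc)
open Groth.Agent.H4DR.FlatBC (hBC)

attribute [local instance] HasDerivedCategory.standard

namespace Groth.Agent.H17.GorCurve

/-- The cohomology of a shifted module. -/
theorem homology_single_shift {U : Scheme.{u}} (M : U.Modules) (m a : ℤ) :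
    (m + a = 0 → Nonempty ((DerivedCategory.homologyFunctor U.Modules a).obj ((DCoh.inD U M)⟦m⟧) ≅ M)) ∧
    (m + a ≠ 0 → IsZero ((DerivedCategory.homologyFunctor U.Modules a).obj ((DCoh.inD U M)⟦m⟧))) := by
  let e := (((DerivedCategory.homologyFunctor U.Modules 0).shiftIso m a (m + a) rfl).app (DCoh.inD U M))
  refine ⟨fun h => ?_, fun h => ?_⟩
  · obtain rfl : a = -m := by omega
    exact ⟨((DerivedCategory.homologyFunctor U.Modules 0).shiftIso m (-m) 0 (by omega)).app (DCoh.inD U M) ≪≫
      (DerivedCategory.singleFunctorCompHomologyFunctorIso U.Modules 0).app M⟩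
  · refine IsZero.of_iso ?_ e
    rcases lt_or_gt_of_ne h with h' | h'
    · exact DerivedCategory.isZero_of_isGE _ 0 _ h'
    · exact DerivedCategory.isZero_of_isLE _ 0 _ h'

variable {k : Type u} [Field k] {X : Scheme.{u}} [X.Over (Spec (CommRingCat.of k))]
  [IsProper (X ↘ Spec (CommRingCat.of k))]

/-- Near a Gorenstein closed point the dualizing module of an equidimensional curve is free of rank one. -/
theorem exists_chart_unit_dualizingMod (hequi : ∀ Z ∈ irreducibleComponents (X : Type u), topologicalKrullDim Z = 1)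
    {x₀ : X} (hx₀ : IsClosed ({x₀} : Set X)) (hgor : LocCoh.IsGorensteinLocalRing (X.presheaf.stalk x₀))
    [DCoh.HasRpush (X ↘ (Spec (CommRingCat.of k)))] (h : DCoh.RpushPreservesQCoh (X ↘ (Spec (CommRingCat.of k))))
    [DCoh.HasShriek (X ↘ (Spec (CommRingCat.of k))) h]
    (OY : DCoh.DQCoh (Spec (CommRingCat.of k)))
    (hOY : Nonempty (OY.obj ≅ DCoh.inD (Spec (CommRingCat.of k)) (Coh.structureModule (Spec (CommRingCat.of k))))) :
    ∃ U : X.Opens, x₀ ∈ U ∧
      Nonempty ((DCoh.dualizingMod (X ↘ (Spec (CommRingCat.of k))) h OY 1).restrict U.ι ≅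
        Coh.structureModule (U : Scheme.{u})) := by
  let f := X ↘ Spec (CommRingCat.of k)
  let adj := DCoh.shriekAdj f h
  let E := ((DCoh.shriek f h).obj OY).obj
  obtain ⟨hc, hN, hE, hcoh, -⟩ := H4RSH.ProperLocal.exists_setup_field f adj OY hOY
  haveI := hc
  haveI := hN
  haveI : ∀ (R : CommRingCat.{u}), PreservesFiniteLimits (tilde.functor R) :=
    fun R => H16Derived.QCohD.preservesFiniteLimits_tilde_of R
  have hX : topologicalKrullDim X ≤ ((1 : ℕ) : WithBot ℕ∞) :=
    H4RSH.ProperLocal.dim_le_of_components fun Z hZ => (hequi Z hZ).le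
  have htop : ∀ x : X, Nontrivial ((DCoh.HD E (-((1 : ℕ) : ℤ))).presheaf.stalk x) := fun x => by
    refine (Set.ext_iff.1 (H4RSH.ProperLocal.support_top_eq hE hX) x).2 ?_
    exact Set.mem_iUnion₂.2 ⟨irreducibleComponent x, ⟨irreducibleComponent_mem_irreducibleComponents x,
      by exact_mod_cast hequi _ (irreducibleComponent_mem_irreducibleComponents x)⟩, mem_irreducibleComponent⟩
  obtain ⟨c⟩ := hE x₀ hx₀
  haveI : IsNoetherianRing (Loc c.m) := c.dual.isNoetherianRing
  obtain ⟨σ⟩ := H4DualSch.exists_stalk_ringEquiv c.j c.m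
  have hg : LocCoh.IsGorensteinLocalRing (Loc c.m) :=
    (H02CA.GorFlat.gor_iff_of_ringEquiv σ).2 (by rw [c.pt]; exact hgor)
  obtain ⟨n, hn, ⟨en⟩⟩ := (H4DR.Dualizing.gorenstein_iff c.dual).1 hg
  haveI := IsLocalization.flat (Loc c.m) c.m.asIdeal.primeCompl
  have hb : ∀ i : ℤ, i < -1 ∨ 0 < i → Subsingleton (Dual.HD c.B c.ω i) := fun i hi => by
    haveI := c.fin i
    refine not_nontrivial_iff_subsingleton.1 fun hne => ?_
    obtain ⟨q, hq⟩ : (Module.support c.B (Dual.HD c.B c.ω i)).Nonempty :=
      Module.nonempty_support_of_nontrivial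
    have := H4RSH.ProperLocal.range_of_stalk hE hX ((c.nontrivial_iff q i).2 hq)
    omega
  obtain ⟨U, l, hl, m, hx₀U, ⟨e⟩⟩ := H4RSH.exists_chart_unit (E := E) c.j c.ω c.e c.fin ⟨-1, 0, hb⟩ c.m n
    (fun i hi => haveI := hn i hi; (hBC (Loc c.m) i c.ω).symm.injective.subsingleton)
    ⟨(hBC (Loc c.m) n c.ω).symm.trans en⟩
  let iso := (DerivedCategory.homologyFunctor U.Modules (-((1 : ℕ) : ℤ))).mapIso e
  let iso' := homologyRdIso l E (-((1 : ℕ) : ℤ))
  obtain ⟨eO⟩ : Nonempty ((Scheme.Modules.restrictFunctor l).obj (DCoh.HD E (-((1 : ℕ) : ℤ))) ≅ Coh.structureModule U) := by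
    obtain ⟨h0, h1⟩ := homology_single_shift (Coh.structureModule U) m (-((1 : ℕ) : ℤ))
    by_cases hm : m + (-((1 : ℕ) : ℤ)) = 0
    · exact ⟨iso'.symm ≪≫ iso ≪≫ (h0 hm).some⟩
    · exfalso
      obtain ⟨u, hu⟩ := hx₀U
      have hz : IsZero ((Scheme.Modules.restrictFunctor l).obj (DCoh.HD E (-((1 : ℕ) : ℤ)))) :=
        (h1 hm).of_iso (iso'.symm ≪≫ iso)
      haveI : Subsingleton (((Scheme.Modules.restrictFunctor l).obj (DCoh.HD E (-((1 : ℕ) : ℤ)))).presheaf.stalk u) :=
        ModuleCat.subsingleton_of_isZero ((DerSch.stalkFunctor U u).map_isZero hz)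
      refine not_subsingleton_iff_nontrivial.2 (htop (l.base u)) ?_
      exact @Function.Injective.subsingleton _ _ _ (((Scheme.Modules.restrictStalkNatIso l u).app
        (DCoh.HD E (-((1 : ℕ) : ℤ)))).symm.addCommGroupIsoToAddEquiv).injective this
  refine ⟨l.opensRange, by rw [← c.pt]; exact hx₀U, ⟨?_⟩⟩
  refine (Scheme.Modules.restrictFunctorCongr (l.isoOpensRange_inv_comp).symm).app _ ≪≫
    (Scheme.Modules.restrictFunctorComp l.isoOpensRange.inv l).app _ ≪≫
    (Scheme.Modules.restrictFunctor l.isoOpensRange.inv).mapIso eO ≪≫ Scheme.Modules.restrictUnitIso _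

/-- The dualizing module of an equidimensional Gorenstein curve is invertible. -/
theorem isInvertible_dualizingMod (hequi : ∀ Z ∈ irreducibleComponents (X : Type u), topologicalKrullDim Z = 1)
    (hgor : ∀ x : X, LocCoh.IsGorensteinLocalRing (X.presheaf.stalk x))
    [DCoh.HasRpush (X ↘ (Spec (CommRingCat.of k)))] (h : DCoh.RpushPreservesQCoh (X ↘ (Spec (CommRingCat.of k))))
    [DCoh.HasShriek (X ↘ (Spec (CommRingCat.of k))) h]
    (OY : DCoh.DQCoh (Spec (CommRingCat.of k)))
    (hOY : Nonempty (OY.obj ≅ DCoh.inD (Spec (CommRingCat.of k)) (Coh.structureModule (Spec (CommRingCat.of k))))) :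
    PicF.IsInvertible (DCoh.dualizingMod (X ↘ (Spec (CommRingCat.of k))) h OY 1) := by
  intro x
  haveI := H28Int.isNoetherian k (X := X)
  obtain ⟨x₀, hx₀, hsp⟩ := H4RSH.ProperLocal.exists_closed_specialization x
  obtain ⟨U, hU, e⟩ := exists_chart_unit_dualizingMod hequi hx₀ (hgor x₀) h OY hOY
  exact ⟨U, hsp.mem_open U.isOpen hU, e⟩

include k in
/-- Components of a nodal curve of dimension one without isolated points are curves. -/
theorem equidim_of_connected [ConnectedSpace X] (hdim : topologicalKrullDim X = 1) :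
    ∀ Z ∈ irreducibleComponents (X : Type u), topologicalKrullDim Z = 1 := by
  haveI := H28Int.isNoetherian k (X := X)
  intro Z hZ
  have hle : topologicalKrullDim Z ≤ 1 :=
    (Topology.IsInducing.subtypeVal.topologicalKrullDim_le).trans hdim.le
  refine le_antisymm hle ?_
  obtain ⟨η, hη⟩ := QuasiSober.sober hZ.1 (isClosed_of_mem_irreducibleComponents Z hZ)
  have hgen : η ∈ genericPoints X := by
    show closure {η} ∈ irreducibleComponents X
    rw [hη.def]
    exact hZ
  have hηc : ¬ IsClosed ({η} : Set X) := fun hc => by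
    have h1 := H29CurveDual.Subcurve.isPure_top hdim (Set.mem_univ η)
    have hfin : {w : X | w ∈ (⊤ : Closeds X) ∧ ¬ IsClosed ({w} : Set X)}.Finite :=
      (H29CurveDual.Subcurve.finite_nonclosed hdim.le).subset fun w hw => hw.2
    rw [← Set.biUnion_of_singleton {w : X | w ∈ (⊤ : Closeds X) ∧ ¬ IsClosed ({w} : Set X)},
      hfin.closure_biUnion] at h1
    simp only [Set.mem_iUnion] at h1
    obtain ⟨w, hw, hwη⟩ := h1
    exact hw.2 ((H8Props.mem_genericPoints_iff.1 hgen w (specializes_iff_mem_closure.2 hwη)) ▸ hc)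
  obtain ⟨z, hz, hne⟩ : ∃ z, η ⤳ z ∧ z ≠ η := by
    by_contra hc
    push Not at hc
    exact hηc (closure_subset_iff_isClosed.1 fun z hz => hc z (specializes_iff_mem_closure.2 hz))
  have hcl : IsClosed Z := isClosed_of_mem_irreducibleComponents Z hZ
  rw [← hη.def]
  by_contra hlt
  have h0 : topologicalKrullDim (closure ({η} : Set X)) ≤ ((0 : ℕ) : WithBot ℕ∞) :=
    Order.le_of_lt_succ (α := WithBot ℕ∞) (by
      rw [not_le] at hlt
      exact hlt.trans_le (le_of_eq (by rfl)))
  have hlt' := H22Alg.DevLength.dim_closure_lt hz hne h0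
  haveI : Nonempty (IrreducibleCloseds (closure ({z} : Set X))) :=
    ⟨⟨closure {⟨z, subset_closure rfl⟩}, isIrreducible_singleton.closure, isClosed_closure⟩⟩
  exact hlt'.not_ge Order.krullDim_nonneg

/-- A connected nodal curve is reduced and its dualizing module is dualizing. -/
theorem isDualizing_of_nodal [ConnectedSpace X] (hdim : topologicalKrullDim X = 1) (hX : Curv2.AtWorstNodal k X)
    [DCoh.HasRpush (X ↘ (Spec (CommRingCat.of k)))] (h : DCoh.RpushPreservesQCoh (X ↘ (Spec (CommRingCat.of k))))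
    [DCoh.HasShriek (X ↘ (Spec (CommRingCat.of k))) h]
    (OY : DCoh.DQCoh (Spec (CommRingCat.of k)))
    (hOY : Nonempty (OY.obj ≅ DCoh.inD (Spec (CommRingCat.of k)) (Coh.structureModule (Spec (CommRingCat.of k))))) :
    IsReduced X ∧ IsDualizing k (DCoh.dualizingMod (X ↘ (Spec (CommRingCat.of k))) h OY 1) := by
  have hequi := equidim_of_connected (k := k) hdim
  obtain ⟨hgor, hred⟩ := Groth.Agent.S1589.result k X hequi hX
  haveI := hred
  exact ⟨GeometricallyReduced.isReduced_of_flat_of_isLocallyNoetherian (X ↘ Spec (CommRingCat.of k)),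
    isDualizing_dualizingMod hdim.le h OY hOY (isInvertible_dualizingMod hequi hgor h OY hOY)⟩

end Groth.Agent.H17.GorCurve
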