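import Groth.Agent.H17.GorCurve.Curve
import Groth.Agent.H06SepNode.Main
import Groth.Agent.H06NormCurve.Sections
import Groth.Agent.H06NormCurve.Push
import Groth.Agent.H06NormCurve.Node
import Groth.Agent.H29Node.NodalLocus

/-!
# The intersection of a subcurve with the complementary curve

The length is at least the number of points, with equality for a nodal curve over an algebraically closed field.
-/

set_option autoImplicit false
set_option linter.style.haveILetI false
set_option linter.unusedSectionVars false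
set_option backward.isDefEq.respectTransparency false
set_option synthInstance.maxHeartbeats 400000

universe u

open CategoryTheory CategoryTheory.Limits AlgebraicGeometry TopologicalSpace
open Groth.Agent.H29CurveDual.Subcurve

namespace Groth.Agent.H17.GorCurve

attribute [local instance 10000] H10Coh.hasSheafifyAb H10Coh.hasWeakSheafifyAb H10Coh.hasExtAb H10Coh.enoughInjAb

variable {X : Scheme.{u}}

/-- A point with domain local ring has only one generic generization. -/
theorem genericPoints_eq_of_domain {x η η' : X} [IsDomain (X.presheaf.stalk x)] (hη : η ∈ genericPoints X)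
    (hη' : η' ∈ genericPoints X) (h : η ⤳ x) (h' : η' ⤳ x) : η = η' := by
  have key : ∀ ξ : X, ξ ∈ genericPoints X → ξ ⤳ x →
      ξ = X.fromSpecStalk x (⟨⊥, Ideal.isPrime_bot⟩ : PrimeSpectrum (X.presheaf.stalk x)) := fun ξ hξ hs => by
    obtain ⟨q, rfl⟩ : ξ ∈ Set.range (X.fromSpecStalk x) := by
      rw [Scheme.range_fromSpecStalk]; exact hs
    refine (H8Props.mem_genericPoints_iff.1 hξ _ (Specializes.map ?_ (X.fromSpecStalk x).continuous)).symm
    exact (PrimeSpectrum.le_iff_specializes _ q).1 (show (⊥ : Ideal _) ≤ q.asIdeal from bot_le)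
  rw [key η hη h, key η' hη' h']

variable [IsReduced X] [IsNoetherian X]

/-- The points common to a pure closed set and its complementary curve have non-domain local rings. -/
theorem not_isDomain_of_mem_inter (hdim : topologicalKrullDim X ≤ 1) (hp : IsPure (⊤ : Closeds X)) {W : Closeds X}
    (hW : IsPure W) {x : X} (hx : x ∈ W) (hx' : x ∈ compl W) : ¬ IsDomain (X.presheaf.stalk x) := fun _ => by
  have key : ∀ {S : Closeds X}, IsPure S → x ∈ S → ∃ η ∈ S, ¬ IsClosed ({η} : Set X) ∧ η ⤳ x := fun {S} hS hxS => by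
    have hfin : {w : X | w ∈ S ∧ ¬ IsClosed ({w} : Set X)}.Finite := (finite_nonclosed hdim).subset fun w hw => hw.2
    have h := hS hxS
    rw [← Set.biUnion_of_singleton {w : X | w ∈ S ∧ ¬ IsClosed ({w} : Set X)}, hfin.closure_biUnion] at h
    simp only [Set.mem_iUnion] at h
    obtain ⟨w, ⟨hw, hw'⟩, hwx⟩ := h
    exact ⟨w, hw, hw', specializes_iff_mem_closure.2 hwx⟩
  obtain ⟨η, hη, hηc, hs⟩ := key hW hx
  obtain ⟨η', hη', hηc', hs'⟩ := key (isPure_compl hp W) hx'
  obtain rfl := genericPoints_eq_of_domain (mem_genericPoints_of_not_isClosed hdim hηc)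
    (mem_genericPoints_of_not_isClosed hdim hηc') hs hs'
  exact (mem_iff_notMem_compl hdim hp W hηc).1 hη hη'

/-- The intersection of two closed sets covering the space, meeting in finitely many ordinary double points,
is reduced. -/
theorem sup_eq_inter {Z Z' : Closeds X} (hcup : Z ⊔ Z' = ⊤) (hfin : ((Z : Set X) ∩ Z').Finite)
    (hloc : ∀ P ∈ (Z : Set X) ∩ Z', IsClosed ({P} : Set X) ∧ P ∈ closure ((Z : Set X) \ {P}) ∧
      P ∈ closure ((Z' : Set X) \ {P}) ∧ ∃ (K : Type u) (_ : Field K), Nonempty
        (AdicCompletion (IsLocalRing.maximalIdeal (X.presheaf.stalk P)) (X.presheaf.stalk P) ≃+* H11Node.NodeRing K)) :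
    idl Z ⊔ idl Z' = idl (Z ⊓ Z') := by
  refine le_antisymm (sup_le (idl_antimono inf_le_left) (idl_antimono inf_le_right)) fun U x hx => ?_
  rw [Scheme.IdealSheafData.ideal_sup, Pi.sup_apply]
  let a := (Scheme.IdealSheafData.vanishingIdeal Z).ideal U
  let b := (Scheme.IdealSheafData.vanishingIdeal Z').ideal U
  show x ∈ a ⊔ b
  have hmem : ∀ (W : Closeds X) (q : PrimeSpectrum Γ(X, U.1)),
      (Scheme.IdealSheafData.vanishingIdeal W).ideal U ≤ q.asIdeal → U.2.fromSpec q ∈ W := by
    intro W q hle
    have : q ∈ PrimeSpectrum.zeroLocus (((Scheme.IdealSheafData.vanishingIdeal W).ideal U : Ideal Γ(X, U.1)) : Set Γ(X, U.1)) := hle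
    rw [Scheme.IdealSheafData.vanishingIdeal_ideal, PrimeSpectrum.zeroLocus_vanishingIdeal_eq_closure] at this
    exact (W.isClosed.preimage U.2.fromSpec.continuous).closure_subset this
  by_contra hnot
  let T : Ideal Γ(X, U.1) := (a ⊔ b).colon {x}
  obtain ⟨n, hn, hTn⟩ := Ideal.exists_le_maximal T fun hT => hnot (by
    have : (1 : Γ(X, U.1)) ∈ T := by rw [hT]; trivial
    simpa [T, Submodule.mem_colon] using this)
  let q : PrimeSpectrum Γ(X, U.1) := ⟨n, hn.isPrime⟩
  have habn : a ⊔ b ≤ n := fun r hr => hTn (by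
    simp only [T, Submodule.mem_colon_singleton, smul_eq_mul]
    exact Ideal.mul_mem_right _ _ hr)
  let P := U.2.fromSpec q
  have hPm : P ∈ (Z : Set X) ∩ Z' := ⟨hmem Z q (le_sup_left.trans habn), hmem Z' q (le_sup_right.trans habn)⟩
  obtain ⟨hPc, hZ, hZ', K, _, ⟨e⟩⟩ := hloc P hPm
  have hPU : P ∈ U.1 := U.2.range_fromSpec.le ⟨q, rfl⟩
  letI : Algebra Γ(X, U.1) (X.presheaf.stalk P) :=
    TopCat.Presheaf.algebra_section_stalk X.presheaf (⟨_, hPU⟩ : U.1)
  haveI : IsLocalization.AtPrime (X.presheaf.stalk P) q.asIdeal := U.2.isLocalization_stalk' q hPU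
  haveI : IsNoetherianRing (X.presheaf.stalk P) := inferInstance
  let S : Type u := X.presheaf.stalk P
  let φ := algebraMap Γ(X, U.1) S
  have hab : a.map φ ⊓ b.map φ = ⊥ := by
    haveI : _root_.IsReduced S := inferInstance
    refine le_bot_iff.1 fun r hr => ?_
    refine Ideal.mem_bot.2 (IsReduced.eq_zero r ⟨2, ?_⟩)
    have h2 : r * r ∈ a.map φ * b.map φ := Ideal.mul_mem_mul hr.1 hr.2
    rw [← Ideal.map_mul] at h2
    have h3 : a * b ≤ ⊥ := Ideal.mul_le_inf.trans (le_of_eq (by
      have h4 := congrArg (fun I : X.IdealSheafData => I.ideal U) (H06SepNode.vanishingIdeal_inf_eq_bot hcup)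
      simpa only [Scheme.IdealSheafData.ideal_inf, Scheme.IdealSheafData.ideal_bot, Pi.inf_apply, Pi.bot_apply] using h4))
    rw [le_bot_iff.1 h3, Ideal.map_bot, Ideal.mem_bot] at h2
    rw [pow_two]; exact h2
  have hnb : ∀ W W' : Closeds X, ((W : Set X) ∩ W').Finite → (∀ z ∈ (W : Set X) ∩ W', IsClosed ({z} : Set X)) →
      P ∈ closure ((W' : Set X) \ {P}) → P ∈ closure (W : Set X)ᶜ := by
    intro W W' hf hc hcl
    let R := ((W : Set X) ∩ W') \ {P}
    have hR : IsClosed R := by
      rw [← Set.biUnion_of_singleton R]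
      exact (hf.subset Set.sdiff_subset).isClosed_biUnion fun z hz => hc z hz.1
    have h1 : P ∈ Rᶜ := fun h => h.2 rfl
    refine closure_mono (fun y hy hyW => ?_) (hR.isOpen_compl.inter_closure ⟨h1, hcl⟩)
    exact hy.1 ⟨⟨hyW, hy.2.1⟩, hy.2.2⟩
  have hcl0 : ∀ z ∈ (Z : Set X) ∩ Z', IsClosed ({z} : Set X) := fun z hz => (hloc z hz).1
  have key := H06SepNode.sup_eq_maximalIdeal e (a.map φ) (b.map φ)
    (by
      rw [show a = a.radical from (H06SepNode.isRadical_vanishingIdeal Z U).radical.symm, IsLocalization.map_radical q.asIdeal.primeCompl S]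
      exact Ideal.radical_isRadical _)
    (by
      rw [show b = b.radical from (H06SepNode.isRadical_vanishingIdeal Z' U).radical.symm, IsLocalization.map_radical q.asIdeal.primeCompl S]
      exact Ideal.radical_isRadical _)
    (H06SepNode.stalk_ne_bot Z U q (hnb Z Z' hfin hcl0 hZ'))
    (H06SepNode.stalk_ne_bot Z' U q (hnb Z' Z (Set.inter_comm _ _ ▸ hfin) (fun z hz => hcl0 z ⟨hz.2, hz.1⟩) hZ))
    (H06SepNode.stalk_lt Z U q hn hZ) (H06SepNode.stalk_lt Z' U q hn hZ') hab
  have hxq : x ∈ q.asIdeal := (H06SepNode.mem_vanishingIdeal_iff _ U x).1 hx q hPm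
  have h5 : φ x ∈ (a ⊔ b).map φ := by
    rw [Ideal.map_sup, key, ← IsLocalization.AtPrime.map_eq_maximalIdeal q.asIdeal S]
    exact Ideal.mem_map_of_mem _ hxq
  obtain ⟨m, hm, hmI⟩ := (IsLocalization.algebraMap_mem_map_algebraMap_iff q.asIdeal.primeCompl S _ x).1 h5
  exact hm (hTn (by simpa [T, Submodule.mem_colon_singleton] using hmI))

variable {k : Type u} [Field k] [X.Over (Spec (CommRingCat.of k))] [IsProper (X ↘ Spec (CommRingCat.of k))]

/-- The global functions of a reduced finite set of closed points. -/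
theorem finrank_h0_quot_finite [IsAlgClosed k] (S : Closeds X) (hfin : (S : Set X).Finite)
    (hcl : ∀ z ∈ S, IsClosed ({z} : Set X)) :
    Module.finrank k (Coh.HH X (ClSub.quotMod (idl S)) 0) = (S : Set X).ncard := by
  letI := overW k S
  haveI : IsProper ((idl S).subscheme ↘ Spec (CommRingCat.of k)) :=
    inferInstanceAs (IsProper ((idl S).subschemeι ≫ (X ↘ Spec (CommRingCat.of k))))
  haveI : IsReduced (idl S).subscheme := H17.isReduced_vanishingIdeal_subscheme S
  have hr : Set.range (idl S).subschemeι = (S : Set X) := by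
    rw [Scheme.IdealSheafData.range_subschemeι, Scheme.IdealSheafData.coe_support_vanishingIdeal]
  haveI := hfin.to_subtype
  haveI : Finite (idl S).subscheme := Finite.of_injective
    (fun y => (⟨(idl S).subschemeι y, hr ▸ ⟨y, rfl⟩⟩ : (S : Set X)))
    (fun a b h => (idl S).subschemeι.isEmbedding.injective (congrArg Subtype.val h))
  haveI : T1Space (idl S).subscheme := ⟨fun y => by
    have h := (hcl _ (hr ▸ ⟨y, rfl⟩ : (idl S).subschemeι y ∈ (S : Set X))).preimage (idl S).subschemeι.continuous
    rwa [← Set.image_singleton, Set.preimage_image_eq _ (idl S).subschemeι.isEmbedding.injective] at h⟩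
  haveI : DiscreteTopology (idl S).subscheme := inferInstance
  have h1 : Module.finrank k (Coh.HH X (ClSub.quotMod (idl S)) 0) =
      Module.finrank k (Coh.HH (idl S).subscheme (Coh.structureModule (idl S).subscheme) 0) :=
    H06NormCurve.finrank_HH_push k (idl S).subschemeι rfl _ (fun U hU p hp => by
      haveI : (Coh.structureModule (idl S).subscheme).IsQuasicoherent := (H10Coh.isCoh_structureModule' _).1
      obtain ⟨n, rfl⟩ := Nat.exists_eq_succ_of_ne_zero hp.ne'
      exact H10Coh.subsingleton_HnM_of_isAffineOpen _ (hU.preimage _) n) 0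
  rw [h1, H06NormCurve.finrank_sections, ← hr, ← Set.image_univ,
    Set.ncard_image_of_injective _ (idl S).subschemeι.isEmbedding.injective, Set.ncard_univ]
  refine Nat.card_congr (Equiv.ofBijective (fun y => ConnectedComponents.mk y)
    ⟨fun a b h => ?_, Quotient.mk_surjective⟩).symm
  have := ConnectedComponents.coe_eq_coe.1 h
  rw [connectedComponent_eq_singleton, connectedComponent_eq_singleton] at this
  exact Set.singleton_eq_singleton_iff.1 this

/-- The common points of a closed set and its complementary curve. -/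
theorem inter_finite (hdim : topologicalKrullDim X ≤ 1) (hp : IsPure (⊤ : Closeds X)) (W : Closeds X) :
    ((W ⊓ compl W : Closeds X) : Set X).Finite ∧ ∀ z ∈ W ⊓ compl W, IsClosed ({z} : Set X) := by
  have hcl : ∀ z ∈ W ⊓ compl W, IsClosed ({z} : Set X) := fun z hz => by
    by_contra h
    exact (mem_iff_notMem_compl hdim hp W h).1 hz.1 hz.2
  exact ⟨finite_of_closed_points (W ⊓ compl W).isClosed hcl, hcl⟩

/-- The length of the intersection is at least the number of its points. -/
theorem ncard_le_delta [IsAlgClosed k] (hdim : topologicalKrullDim X ≤ 1) (hp : IsPure (⊤ : Closeds X))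
    (W : Closeds X) : (((W : Set X) ∩ compl W).ncard : ℤ) ≤ delta k W := by
  obtain ⟨hf, hc⟩ := inter_finite hdim hp W
  have hle : idl W ⊔ idl (compl W) ≤ idl (W ⊓ compl W) :=
    sup_le (idl_antimono inf_le_left) (idl_antimono inf_le_right)
  obtain ⟨q, -, hq⟩ := exists_quotMap hle
  have hQ := LeadDev.isCoh_push_structure (idl W ⊔ idl (compl W)).subschemeι
  have hQ' := LeadDev.isCoh_push_structure (idl (W ⊓ compl W)).subschemeι
  haveI := H10Coh.finite_HH_proper k X _ hQ 0
  haveI : Epi q := hq
  have hsupp : ∀ η : X, ¬ IsClosed ({η} : Set X) → η ∉ CohB1.support (ClSub.quotMod (idl W ⊔ idl (compl W))) :=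
    fun η hη hs => by
      rw [mem_support_quot, Scheme.IdealSheafData.support_sup, Closeds.coe_inf,
        Scheme.IdealSheafData.coe_support_vanishingIdeal, Scheme.IdealSheafData.coe_support_vanishingIdeal] at hs
      exact hη (hc η hs)
  have hK : Coh.IsCoh (kernel q) := H10Coh.isCoh_kernel _ hQ hQ'.1
  have h := H25Euler.euler_add (k := k) (H10Coh.shortExact_kernel q) hK hQ hQ'
  have hK0 : ∀ η : X, ¬ IsClosed ({η} : Set X) → Subsingleton ((kernel q).presheaf.stalk η) := fun η hη =>
    H25Par.subsingleton_stalk_of_mono (kernel.ι q) (not_not.1 (hsupp η hη))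
  have e0 : ∀ (M : X.Modules), Coh.IsCoh M → (∀ η : X, ¬ IsClosed ({η} : Set X) → Subsingleton (M.presheaf.stalk η)) →
      Curv2.euler k X M = Module.finrank k (Coh.HH X M 0) := fun M hM h => by
    obtain ⟨-, -, h1⟩ := subsingleton_HH_one hM h
    rw [H29RR.euler_eq_sub (k := k) hdim, Module.finrank_zero_of_subsingleton (R := k) (M := Coh.HH X M 1)]
    simp
  have h' : Curv2.euler k X (ClSub.quotMod (idl W ⊔ idl (compl W))) =
      Curv2.euler k X (kernel q) + Curv2.euler k X (ClSub.quotMod (idl (W ⊓ compl W))) := h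
  rw [e0 _ hQ fun η hη => not_not.1 (hsupp η hη), e0 _ hK hK0,
    e0 _ hQ' fun η hη => not_not.1 fun hs => hη (hc η (by
      have := (mem_support_quot _).le hs
      rwa [Scheme.IdealSheafData.coe_support_vanishingIdeal] at this)),
    finrank_h0_quot_finite (k := k) (W ⊓ compl W) hf hc] at h'
  have e : ((W ⊓ compl W : Closeds X) : Set X) = (W : Set X) ∩ compl W := Closeds.coe_inf _ _
  rw [← e]
  exact le_of_le_of_eq (le_add_of_nonneg_left (Int.natCast_nonneg _)) h'.symm

/-- For a nodal curve over an algebraically closed field the length of the intersection is the number of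
points. -/
theorem delta_eq_ncard [IsAlgClosed k] (hX : Curv2.AtWorstNodal k X) (hdim : topologicalKrullDim X ≤ 1)
    (hp : IsPure (⊤ : Closeds X)) {W : Closeds X} (hW : IsPure W) :
    delta k W = (((W : Set X) ∩ compl W).ncard : ℤ) := by
  obtain ⟨hf, hc⟩ := inter_finite hdim hp W
  have hcup : W ⊔ compl W = ⊤ := Closeds.ext (Set.eq_univ_of_forall fun x => by
    by_cases h : x ∈ W
    exacts [Or.inl h, Or.inr (mem_compl_of_notMem h)])
  have hacc : ∀ {S : Closeds X}, IsPure S → ∀ {P : X}, IsClosed ({P} : Set X) → P ∈ S →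
      P ∈ closure ((S : Set X) \ {P}) := fun {S} hS {P} hP hPS =>
    closure_mono (fun η (hη : η ∈ S ∧ ¬ IsClosed ({η} : Set X)) =>
      show η ∈ (S : Set X) ∧ η ∉ ({P} : Set X) from ⟨hη.1, fun e => hη.2 ((Set.mem_singleton_iff.1 e) ▸ hP)⟩) (show P ∈ closure _ from hS hPS)
  have key := sup_eq_inter hcup (by rwa [← Closeds.coe_inf]) fun P hP => by
    have hPc := hc P hP
    refine ⟨hPc, hacc hW hPc hP.1, hacc (isPure_compl hp W) hPc hP.2, k, inferInstance, ?_⟩
    rcases hX P hPc with h | h
    · haveI := H06NormCurve.isRegularLocalRing_of_smooth_nhd (k := k) h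
      exact absurd (H4Depth.isDomain_of_isRegularLocalRing (X.presheaf.stalk P))
        (not_isDomain_of_mem_inter hdim hp hW hP.1 hP.2)
    · obtain ⟨-, hord⟩ := H29Node.isNode_iff_ord.1 h
      obtain ⟨e, -⟩ := hord
      exact ⟨e⟩
  show (Module.finrank k (Coh.HH X (ClSub.quotMod (idl W ⊔ idl (compl W))) 0) : ℤ) = _
  rw [key, finrank_h0_quot_finite (k := k) (W ⊓ compl W) hf hc, Closeds.coe_inf]

end Groth.Agent.H17.GorCurve
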