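import Groth.Agent.H17.GorCurve.DegPoints
import Groth.Agent.H17.GorCurve.Gorenstein
import Groth.Agent.H29CurveDual.Clifford
import Groth.Agent.H11Ample.Tensor

/-!
# Dualizing modules twisted by marked points
-/

set_option autoImplicit false
set_option linter.style.haveILetI false
set_option linter.unusedSectionVars false
set_option backward.isDefEq.respectTransparency false
set_option synthInstance.maxHeartbeats 400000

universe u

open CategoryTheory CategoryTheory.Limits AlgebraicGeometry TopologicalSpace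
open Groth.Agent.H29CurveDual.Subcurve

attribute [local instance] HasDerivedCategory.standard

namespace Groth.Agent.H17.GorCurve

attribute [local instance 10000] H10Coh.hasSheafifyAb H10Coh.hasWeakSheafifyAb H10Coh.hasExtAb H10Coh.enoughInjAb

variable {k : Type u} [Field k] {X : Scheme.{u}} [X.Over (Spec (CommRingCat.of k))]
  [IsProper (X ↘ Spec (CommRingCat.of k))] [IsReduced X] [ConnectedSpace X]
  (hdim : topologicalKrullDim X = 1)

include k hdim in
/-- Components are connected reduced subcurves. -/
theorem component_subcurve {C : Set X} (hC : C ∈ irreducibleComponents (X : Type u)) :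
    IsReduced (idl ⟨C, isClosed_of_mem_irreducibleComponents C hC⟩).subscheme ∧
      ConnectedSpace (idl ⟨C, isClosed_of_mem_irreducibleComponents C hC⟩).subscheme ∧
      topologicalKrullDim (idl ⟨C, isClosed_of_mem_irreducibleComponents C hC⟩).subscheme = 1 := by
  let J := idl (⟨C, isClosed_of_mem_irreducibleComponents C hC⟩ : Closeds X)
  haveI : IsReduced J.subscheme := H17.isReduced_vanishingIdeal_subscheme _
  have hr : Set.range J.subschemeι = C := by
    rw [Scheme.IdealSheafData.range_subschemeι]
    exact Scheme.IdealSheafData.coe_support_vanishingIdeal _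
  let e := J.subschemeι.isClosedEmbedding.isEmbedding.toHomeomorph
  haveI : ConnectedSpace C := isConnected_iff_connectedSpace.1 hC.1.isConnected
  haveI : ConnectedSpace (Set.range J.subschemeι) := hr.symm ▸ ‹ConnectedSpace C›
  exact ⟨‹_›, e.symm.surjective.connectedSpace e.symm.continuous,
    by rw [e.isHomeomorph.topologicalKrullDim_eq, hr, equidim_of_connected (k := k) hdim C hC]⟩

include hdim in
/-- Ampleness from the components. -/
theorem isAmple_of_components {L : X.Modules} (hL : PicF.IsInvertible L)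
    (h : ∀ (C : Set X) (hC : C ∈ irreducibleComponents (X : Type u)),
      0 < degJ k (idl ⟨C, isClosed_of_mem_irreducibleComponents C hC⟩) L) : CohB1.IsAmple L := by
  haveI := H28Int.isNoetherian k (X := X)
  refine (S7642.result k X hdim.le L hL).2 fun C hC _ => ?_
  have e : (X.irreducibleComponentIdeal C hC).radical = idl ⟨C, isClosed_of_mem_irreducibleComponents C hC⟩ := by
    rw [← Scheme.IdealSheafData.vanishingIdeal_support]
    exact congrArg _ (Closeds.ext rfl)
  rw [e]
  exact h C hC

theorem nonneg_of_forall {p a : ℤ} (h : ∀ n : ℕ, 0 < n * p + a) : 0 ≤ p := by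
  by_contra hp
  have := h a.natAbs
  have h1 : (a.natAbs : ℤ) * p ≤ -(a.natAbs : ℤ) := by nlinarith [Int.natCast_nonneg a.natAbs]
  have h2 : a ≤ (a.natAbs : ℤ) := Int.le_natAbs
  omega

include hdim in
/-- Nonnegative degrees on the components give nonnegative degrees on every subcurve. -/
theorem degJ_nonneg_of_components {M : X.Modules} (hM : PicF.IsInvertible M)
    (h : ∀ (C : Set X) (hC : C ∈ irreducibleComponents (X : Type u)),
      0 ≤ degJ k (idl ⟨C, isClosed_of_mem_irreducibleComponents C hC⟩) M)
    (J : X.IdealSheafData) [IsReduced J.subscheme] [ConnectedSpace J.subscheme]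
    (hJ : topologicalKrullDim J.subscheme = 1) : 0 ≤ degJ k J M := by
  obtain ⟨A, hA⟩ := H22Alg.CurveProj.exists_ample k X hdim.le
  have hAi := H11Ample.isInvertible_of_isAmple hA
  refine nonneg_of_forall (a := degJ k J A) fun n => ?_
  have hMn := H11Ample.isInvertible_tensorPow hM n
  rw [← degJ_tensorPow hdim.le J hM n, ← degJ_tensor hdim.le J hMn hAi]
  refine degJ_pos_of_ample hdim.le (isAmple_of_components (k := k) hdim (H11Ample.isInvertible_tensor hMn hAi)
    fun C hC => ?_) J hJ
  obtain ⟨h1, h2, h3⟩ := component_subcurve (k := k) hdim hC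
  rw [degJ_tensor hdim.le _ hMn hAi, degJ_tensorPow hdim.le _ hM n]
  have h4 : 0 < degJ k (idl ⟨C, isClosed_of_mem_irreducibleComponents C hC⟩) A := degJ_pos_of_ample hdim.le hA _ h3
  have h5 := mul_nonneg (Int.natCast_nonneg n) (h C hC)
  omega

include hdim in
/-- A globally generated invertible module has nonnegative degrees. -/
theorem degJ_nonneg_of_isGloballyGenerated {M : X.Modules} (hM : PicF.IsInvertible M)
    (hg : Curv2.IsGloballyGenerated M) (J : X.IdealSheafData) [IsReduced J.subscheme] [ConnectedSpace J.subscheme]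
    (hJ : topologicalKrullDim J.subscheme = 1) : 0 ≤ degJ k J M := by
  haveI := H28Int.isNoetherian k (X := X)
  haveI : X.IsSeparated := by
    rw [Scheme.isSeparated_iff, ← terminal.comp_from (X ↘ Spec (CommRingCat.of k))]
    infer_instance
  obtain ⟨A, hA⟩ := H22Alg.CurveProj.exists_ample k X hdim.le
  have hAi := H11Ample.isInvertible_of_isAmple hA
  refine nonneg_of_forall (a := degJ k J A) fun n => ?_
  suffices ∃ B, CohB1.IsAmple B ∧ degJ k J B = n * degJ k J M + degJ k J A by
    obtain ⟨B, hB, e⟩ := this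
    exact e ▸ degJ_pos_of_ample hdim.le hB J hJ
  induction n with
  | zero => exact ⟨A, hA, by simp⟩
  | succ n ih =>
    obtain ⟨B, hB, e⟩ := ih
    refine ⟨_, H11Ample.isAmple_tensor hB hM hg, ?_⟩
    rw [degJ_tensor hdim.le J (H11Ample.isInvertible_of_isAmple hB) hM, e]
    push_cast
    ring

variable [IsAlgClosed k]

include hdim in
/-- The twist by finitely many smooth points: invertibility and degrees. -/
theorem degJ_inverse_points {S : Closeds X} (hfin : (S : Set X).Finite)
    (hsm : ∀ z ∈ S, ∃ U : X.Opens, z ∈ U ∧ Smooth (U.ι ≫ (X ↘ Spec (CommRingCat.of k))))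
    {N : X.Modules} (hN : ClSub.IsInverseOf N (ClSub.idealMod (idl S))) :
    PicF.IsInvertible N ∧ Curv2.deg k X N 1 = ((S : Set X).ncard : ℤ) ∧
      ∀ (J : X.IdealSheafData), IsReduced J.subscheme → ConnectedSpace J.subscheme →
        topologicalKrullDim J.subscheme = 1 → degJ k J N = (((S : Set X) ∩ J.support).ncard : ℤ) := by
  haveI := H28Int.isNoetherian k (X := X)
  have hequi := equidim_of_connected (k := k) hdim
  have hcl : ∀ z ∈ S, IsClosed ({z} : Set X) := fun z hz => by
    haveI : JacobsonSpace X := LocallyOfFiniteType.jacobsonSpace (X ↘ Spec (CommRingCat.of k))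
    haveI : Finite (S : Set X) := hfin.to_subtype
    haveI : JacobsonSpace (S : Set X) := JacobsonSpace.of_isClosedEmbedding S.isClosed.isClosedEmbedding_subtypeVal
    have h := (S.isClosed.isClosedEmbedding_subtypeVal.isClosed_iff_image_isClosed).1
      (isClosed_discrete ({⟨z, hz⟩} : Set (S : Set X)))
    rwa [Set.image_singleton] at h
  have hreg : ∀ z ∈ S, (IsLocalRing.maximalIdeal (X.presheaf.stalk z)).IsPrincipal ∧
      ringKrullDim (X.presheaf.stalk z) = 1 := fun z hz => reg_of_smooth (k := k) hequi (hcl z hz) (hsm z hz)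
  have hdom : ∀ z ∈ S, IsDomain (X.presheaf.stalk z) := fun z hz =>
    haveI := H06NormCurve.isRegularLocalRing_of_smooth_nhd (k := k) (hsm z hz)
    H4Depth.isDomain_of_isRegularLocalRing (X.presheaf.stalk z)
  have hI := H29Blow.isInvertible_of_isEffCartierIdeal _ (isEffCartierIdeal_idl hfin hcl hreg)
  obtain ⟨eN⟩ := hN
  have hNi : PicF.IsInvertible N :=
    H29CurveDual.isInvertible_of_isInverseOf hI ⟨H10Coh.Tw.commIso _ _ ≪≫ eN⟩
  refine ⟨hNi, ?_, fun J hJr hJc hJ => ?_⟩
  · have h := H27Prod.deg_tensor k (by exact_mod_cast hdim.le) hNi hI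
    rw [H27Prod.deg_congr k eN, H27Prod.deg_structure k, deg_idl (k := k) hdim.le hfin hcl] at h
    omega
  · obtain ⟨W, rfl, hW⟩ : ∃ W : Closeds X, J = idl W ∧ IsPure W :=
      ⟨_, idl_support J, isPure_support (k := k) hdim.le J hJ⟩
    rw [coe_support_idl]
    have h := degW_tensor (k := k) hdim.le hNi hI W
    have h0 : degW k W (CohB1.tensorMod N (ClSub.idealMod (idl S))) = 0 := by
      rw [degW_congr eN]
      exact sub_eq_zero.2 (H25Euler.euler_congr (H10Coh.Tw.rightUnitIso _))
    rw [h0, degW_idl (k := k) hdim.le (isPure_top hdim) hfin hcl hreg hdom hW] at h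
    have e : degJ k (idl W) N = degW k W N := (degW_eq_deg hNi W).symm
    omega

/-- The pointed degree formula: `2γ - 2 + δ + d`, and `δ = 0` only for the whole curve. -/
theorem twist_numerics {ω : X.Modules} (hdim : topologicalKrullDim X = 1) (hω : IsDualizing k ω)
    {S : Closeds X} (hfin : (S : Set X).Finite)
    (hsm : ∀ z ∈ S, ∃ U : X.Opens, z ∈ U ∧ Smooth (U.ι ≫ (X ↘ Spec (CommRingCat.of k))))
    {N : X.Modules} (hN : ClSub.IsInverseOf N (ClSub.idealMod (idl S)))
    {M : X.Modules} (e : M ≅ CohB1.tensorMod ω N) :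
    PicF.IsInvertible M ∧ Curv2.deg k X M 1 = 2 * (Curv2.genus k X : ℤ) - 2 + (S : Set X).ncard ∧
    ∀ (J : X.IdealSheafData), IsReduced J.subscheme → ConnectedSpace J.subscheme →
      topologicalKrullDim J.subscheme = 1 → ∃ γ δ d : ℕ,
        γ = @Curv2.genus k _ J.subscheme (overJ k J) ∧ (δ : ℤ) = deltaJ k J ∧
        d = ((S : Set X) ∩ J.support).ncard ∧
        degJ k J M = 2 * (γ : ℤ) - 2 + δ + d ∧
        ((δ = 0 ∧ γ = Curv2.genus k X ∧ d = (S : Set X).ncard) ∨ 1 ≤ δ) := by
  obtain ⟨hNi, hNd, hNJ⟩ := degJ_inverse_points hdim hfin hsm hN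
  refine ⟨H11Tilde.isInvertible_of_iso e.symm (H11Ample.isInvertible_tensor hω.1 hNi), ?_, fun J hJr hJc hJ => ?_⟩
  · have hX : Curv2.euler k X (Coh.structureModule X) = 1 - (Curv2.genus k X : ℤ) := by
      rw [H29RR.euler_eq_sub (k := k) hdim.le, H29RR.finrank_h0_structure k X]
      rfl
    rw [H27Prod.deg_congr k e, H27Prod.deg_tensor k (by exact_mod_cast hdim.le) hω.1 hNi, hNd, deg_omega hdim hω, hX]
    ring
  · obtain ⟨h1, h2⟩ := numerics hdim hω hNi J hJ
    obtain ⟨δ, hδ⟩ : ∃ δ : ℕ, (δ : ℤ) = deltaJ k J := ⟨_, rfl⟩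
    refine ⟨_, δ, _, rfl, hδ, rfl, ?_, ?_⟩
    · rw [degJ_congr J e, degJ_tensor hdim.le J hω.1 hNi, hNJ J hJr hJc hJ, h1, ← hδ]
    · rcases h2 with ⟨a, b, c⟩ | h2
      · refine Or.inl ⟨by omega, by omega, ?_⟩
        rw [hNJ J hJr hJc hJ, hNd] at b
        exact_mod_cast b
      · exact Or.inr (by omega)

include hdim in
/-- The genus of a subcurve is at most that of the curve; here only the genus zero case. -/
theorem genus_subcurve_eq_zero (hg : Curv2.genus k X = 0) (J : X.IdealSheafData) :
    @Curv2.genus k _ J.subscheme (overJ k J) = 0 := by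
  letI := overJ k J
  haveI := H28Int.isNoetherian k (X := X)
  haveI := H10Coh.finite_HH_proper k X _ (H10Coh.isCoh_structureModule' X) 1
  haveI : Subsingleton (Coh.HH X (Coh.structureModule X) 1) := Module.finrank_zero_iff.1 hg
  haveI := H10Coh.epi_toSubscheme J
  haveI : Subsingleton (Coh.HH X (ClSub.quotMod J) 1) := subsingleton_of_forall_eq 0 fun y => by
    have hπ : cokernel.π (ClSub.toSubscheme J) = 0 := cokernel.π_of_epi _
    obtain ⟨z, rfl⟩ := ker_le_range_hhlin (k := k) hdim.le (ClSub.toSubscheme J)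
      (show y ∈ LinearMap.ker _ by rw [LinearMap.mem_ker, hπ, H29RR.hhlin_zero])
    rw [Subsingleton.elim z 0, map_zero]
  have h : Module.finrank k (Coh.HH X (ClSub.quotMod J) 1) =
      Module.finrank k (Coh.HH J.subscheme (Coh.structureModule J.subscheme) 1) :=
    H06NormCurve.finrank_HH_push k J.subschemeι rfl _ (fun U hU p hp => by
      haveI : (Coh.structureModule J.subscheme).IsQuasicoherent := (H10Coh.isCoh_structureModule' _).1
      obtain ⟨n, rfl⟩ := Nat.exists_eq_succ_of_ne_zero hp.ne'
      exact H10Coh.subsingleton_HnM_of_isAffineOpen _ (hU.preimage _) n) 1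
  rw [Module.finrank_zero_of_subsingleton] at h
  exact h.symm

end Groth.Agent.H17.GorCurve
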