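import Groth.Agent.H17.GorCurve.DegPoints
import Groth.Agent.H17.GorCurve.Gorenstein
import Groth.Agent.H29CurveDual.Clifford
import Groth.Agent.H4RepDual.Field
import Groth.Agent.H10Coh.CurveBdd.Sections
import Groth.Agent.H25Euler.ParSh
import Groth.Agent.H29RR.GenPoint
import Groth.Agent.S13308
import Groth.Agent.S0342

/-!
# Dualizing pairs of curves near a regular point, and twists by that point
-/

set_option autoImplicit false
set_option linter.style.haveILetI false
set_option linter.unusedSectionVars false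
set_option backward.isDefEq.respectTransparency false
set_option synthInstance.maxHeartbeats 400000
set_option maxHeartbeats 800000

universe u

open CategoryTheory CategoryTheory.Limits AlgebraicGeometry TopologicalSpace
open Groth.Agent.H29CurveDual.Subcurve
open Groth.Agent.H06Mod (stalkLin stalkLin_germ)

attribute [local instance] HasDerivedCategory.standard

namespace Groth.Agent.H17.GorCurve

attribute [local instance 10000] H10Coh.hasSheafifyAb H10Coh.hasWeakSheafifyAb H10Coh.hasExtAb H10Coh.enoughInjAb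

variable {k : Type u} [Field k] {X : Scheme.{u}} [X.Over (Spec (CommRingCat.of k))]
  [IsProper (X ↘ Spec (CommRingCat.of k))]

/-- A module free of rank one on an open has a generator there. -/
theorem exists_isGen_of_restrict_iso {L : X.Modules} {U : X.Opens}
    (φ : L.restrict U.ι ≅ Coh.structureModule (U : Scheme.{u})) :
    ∃ (V : X.Opens) (e : Γ(L, V)), V = U ∧ H11Tilde.IsGen L e := by
  let one : ∀ W : (U : Scheme.{u}).Opens, Γ(Coh.structureModule (U : Scheme.{u}), W) :=
    fun W => (1 : Γ((U : Scheme.{u}), W))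
  let e₀ : Γ(L, U.ι ''ᵁ ⊤) := φ.inv.app ⊤ (one ⊤)
  have hbij : ∀ (W : (U : Scheme.{u}).Opens), Function.Bijective fun r : Γ(X, U.ι ''ᵁ W) =>
      r • L.presheaf.map (homOfLE (Scheme.Hom.image_mono U.ι (le_top : W ≤ ⊤))).op e₀ := by
    intro W
    have hφ : Function.Bijective (φ.inv.app W) := ConcreteCategory.bijective_of_isIso _
    have h1 : φ.inv.app W (one W) =
        L.presheaf.map (homOfLE (Scheme.Hom.image_mono U.ι (le_top : W ≤ ⊤))).op e₀ := by
      have h2 : (Coh.structureModule (U : Scheme.{u})).presheaf.map (homOfLE (le_top : W ≤ ⊤)).op (one ⊤) =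
          one W := map_one ((U : Scheme.{u}).presheaf.map (homOfLE (le_top : W ≤ ⊤)).op).hom
      rw [← h2]
      exact congr($(φ.inv.mapPresheaf.naturality (homOfLE (le_top : W ≤ ⊤)).op) (one ⊤))
    refine (Function.Bijective.of_comp_iff _
      (ConcreteCategory.bijective_of_isIso (U.ι.appIso W).inv)).mp ?_
    have h3 : ∀ r : Γ((U : Scheme.{u}), W), (U.ι.appIso W).inv r •
        L.presheaf.map (homOfLE (Scheme.Hom.image_mono U.ι (le_top : W ≤ ⊤))).op e₀ = φ.inv.app W r := by
      intro r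
      have h4 := Scheme.Modules.Hom.app_smul φ.inv (U := W) r (one W)
      rw [h1] at h4
      refine Eq.trans ?_ (h4.symm.trans (congrArg (φ.inv.app W) (mul_one r)))
      rfl
    exact ⟨fun a b h => hφ.1 ((h3 a).symm.trans (h.trans (h3 b))),
      fun m => (hφ.2 m).imp fun a ha => (h3 a).trans ha⟩
  refine ⟨U.ι ''ᵁ ⊤, e₀, by rw [Scheme.Hom.image_top_eq_opensRange, Scheme.Opens.opensRange_ι],
    H11Tilde.isGen_of_bijective fun W hW => ?_⟩
  obtain ⟨W', rfl⟩ : ∃ W' : (U : Scheme.{u}).Opens, W = U.ι ''ᵁ W' := ⟨U.ι ⁻¹ᵁ W, by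
    rw [Scheme.Hom.image_preimage_eq_opensRange_inf, Scheme.Opens.opensRange_ι]
    refine (inf_eq_right.2 (hW.trans ?_)).symm
    rw [Scheme.Hom.image_top_eq_opensRange, Scheme.Opens.opensRange_ι]⟩
  exact hbij W'

variable [IsReduced X] [ConnectedSpace X]

/-- Near a regular closed point the sheaf of a dualizing pair is free of rank one. -/
theorem exists_isGen_of_isRDualOver (hdim : topologicalKrullDim X = 1) {ω : X.Modules}
    {tr : Coh.HH X ω 1 →ₗ[k] k} (hω : Canon.IsRDualOver k X 1 ω tr) {p : X} (hp : IsClosed ({p} : Set X))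
    (hreg : IsRegularLocalRing (X.presheaf.stalk p)) :
    ∃ (V : X.Opens) (e : Γ(ω, V)), p ∈ V ∧ H11Tilde.IsGen ω e := by
  haveI := H28Int.isNoetherian k (X := X)
  haveI := H4RepDual.hasExtModules X
  haveI := H16Derived.QCohD.hasRpush (X ↘ Spec (CommRingCat.of k))
  haveI := H16Derived.QCohD.preservesFiniteLimits_tilde_of k
  have h : DCoh.RpushPreservesQCoh (X ↘ Spec (CommRingCat.of k)) := fun K hK =>
    H16Derived.QCohD.isQCohD_rpush _ hK
  haveI : DCoh.HasShriek (X ↘ Spec (CommRingCat.of k)) h := LeadBrown.isLeftAdjoint_rpushQ _ h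
  let OY : DCoh.DQCoh (Spec (CommRingCat.of k)) :=
    ⟨DCoh.inD _ (Coh.structureModule _), H16Derived.TorTest.isQCohD_inD H10Coh.isQuasicoherent_unit⟩
  have hOY : Nonempty (OY.obj ≅ DCoh.inD (Spec (CommRingCat.of k)) (Coh.structureModule (Spec (CommRingCat.of k)))) :=
    ⟨Iso.refl _⟩
  let D := DCoh.dualizingMod (X ↘ (Spec (CommRingCat.of k))) h OY 1
  obtain ⟨t, ht⟩ := H4RSH.SerreDual.exists_trace (DCoh.shriekAdj (X ↘ Spec (CommRingCat.of k)) h) OY hOY (d := 1)
    (by exact_mod_cast hdim.le)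
  obtain ⟨-, -, -, hcoh, -⟩ := H4RSH.ProperLocal.exists_setup_field (X ↘ Spec (CommRingCat.of k))
    (DCoh.shriekAdj (X ↘ Spec (CommRingCat.of k)) h) OY hOY
  have hD : Canon.IsRDualOver k X 1 D t := ⟨(hcoh _).1, fun F hF => Function.bijective_iff_existsUnique _ |>.2
    fun ψ => ht F hF ψ⟩
  obtain ⟨⟨ρ, hρ, -⟩, hiso⟩ := Groth.Agent.S13308.result k X 1
    (fun y => ((X ↘ Spec (CommRingCat.of k)).fiberι y).isEmbedding.isInducing.topologicalKrullDim_le.trans
      (by exact_mod_cast hdim.le)) ω D tr t hω hD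
  haveI := hiso ρ hρ
  obtain ⟨U, hpU, ⟨φ⟩⟩ := exists_chart_unit_dualizingMod (equidim_of_connected (k := k) hdim) hp
    (Groth.Agent.S0342.result (X.presheaf.stalk p)) h OY hOY
  obtain ⟨V, e, hV, he⟩ := exists_isGen_of_restrict_iso
    ((Scheme.Modules.restrictFunctor U.ι).mapIso (asIso ρ).symm ≪≫ φ)
  exact ⟨V, e, hV ▸ hpU, he⟩

omit [ConnectedSpace X] in
/-- The stalk of the reduced ideal of finitely many regular points is the maximal ideal. -/
theorem map_idl_eq_maximalIdeal [IsNoetherian X] {S : Closeds X} (hcl : ∀ z ∈ S, IsClosed ({z} : Set X)) {z : X}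
    (hz : z ∈ S) (V : X.affineOpens) (hV : z ∈ V.1) :
    ((idl S).ideal V).map (X.presheaf.germ V.1 z hV).hom = IsLocalRing.maximalIdeal (X.presheaf.stalk z) := by
  have hr : Set.range (idl S).subschemeι = (S : Set X) := by
    rw [Scheme.IdealSheafData.range_subschemeι, coe_support_idl]
  obtain ⟨d, rfl⟩ : z ∈ Set.range (idl S).subschemeι := hr.symm.subset hz
  haveI : IsReduced (idl S).subscheme := H17.isReduced_vanishingIdeal_subscheme S
  have hd : d ∈ genericPoints (idl S).subscheme := H8Props.mem_genericPoints_iff.2 fun w hw => by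
    have hc := (hcl _ (hr ▸ ⟨w, rfl⟩ : (idl S).subschemeι w ∈ (S : Set X))).preimage
      (idl S).subschemeι.continuous
    rw [← Set.image_singleton, Set.preimage_image_eq _ (idl S).subschemeι.isEmbedding.injective] at hc
    exact (hc.closure_subset (specializes_iff_mem_closure.1 hw)).symm
  rw [← H29Blow.ker_stalkMap_subschemeι (idl S) d V hV]
  letI := (H17.isField_stalk_generic (idl S).subscheme hd inferInstance).toField
  exact IsLocalRing.eq_maximalIdeal (RingHom.ker_isMaximal_of_surjective ((idl S).subschemeι.stalkMap d).hom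
    ((idl S).subschemeι.stalkMap_surjective d))

omit [IsReduced X] [ConnectedSpace X] in
/-- A section lifts along a monomorphism as soon as all its germs do. -/
theorem exists_lift_of_range {A B : X.Modules} (J : A ⟶ B) [Mono J] (s : Coh.structureModule X ⟶ B)
    (h : ∀ y : X, stalkLin s y ((Coh.structureModule X).presheaf.germ ⊤ y trivial (H11Ample.one ⊤)) ∈
      LinearMap.range (stalkLin J y)) :
    ∃ s' : Coh.structureModule X ⟶ A, s' ≫ J = s := by
  have hz : s ≫ cokernel.π J = 0 := by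
    refine Scheme.Modules.hom_ext _ _ fun W => ?_
    ext a
    refine TopCat.Presheaf.section_ext ⟨(cokernel J).presheaf, (cokernel J).isSheaf⟩ W _ _ fun y hy => ?_
    rw [← stalkLin_germ (s ≫ cokernel.π J) y W hy, Scheme.Modules.Hom.zero_app]
    refine Eq.trans ?_ (map_zero _).symm
    obtain ⟨ρ, hρ⟩ := (H11Ample.isGen_one (X := X) ⊤ y trivial).2 ((Coh.structureModule X).presheaf.germ W y hy a)
    obtain ⟨t, ht⟩ := h y
    have h1 : stalkLin (s ≫ cokernel.π J) y (ρ • (Coh.structureModule X).presheaf.germ ⊤ y trivial (H11Ample.one ⊤)) = 0 := by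
      rw [map_smul, H29CurveDual.Subcurve.stalkLin_comp, ← ht, ← H29CurveDual.Subcurve.stalkLin_comp,
        cokernel.condition, H29CurveDual.Subcurve.stalkLin_zero_apply, smul_zero]
    exact (congrArg (stalkLin (s ≫ cokernel.π J) y) hρ.symm).trans h1
  exact ⟨Abelian.monoLift J s hz, Abelian.monoLift_comp J s hz⟩

/-- Twisting by a regular point: sections of `ω` vanishing at `p` and morphisms `O(p) ⟶ ω`. -/
theorem twist_point_iff [IsNoetherian X] {p : X} (hp : IsClosed ({p} : Set X))
    (hI : BlowUp.IsEffCartierIdeal (idl (⟨{p}, hp⟩ : Closeds X))) {L ω : X.Modules} (hL : PicF.IsInvertible L)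
    (eL : CohB1.tensorMod L (ClSub.idealMod (idl (⟨{p}, hp⟩ : Closeds X))) ≅ Coh.structureModule X)
    (hgen : ∃ (V : X.Opens) (e : Γ(ω, V)), p ∈ V ∧ H11Tilde.IsGen ω e) :
    Subsingleton (L ⟶ ω) ↔ ∀ s : Coh.structureModule X ⟶ ω, s ≠ 0 → p ∈ CohB1.genLocus ω s := by
  set S : Closeds X := ⟨{p}, hp⟩
  set I := idl S
  have hII := H29Blow.isInvertible_of_isEffCartierIdeal _ hI
  obtain ⟨V₀, e₀, hpV₀, he₀⟩ := hgen
  obtain ⟨V, hV, a, b, hpV, hVV₀, ha, -, hIa, -⟩ := H28Vert.exists_common_gen hI hI hpV₀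
  have heI : H11Tilde.IsGen (ClSub.idealMod I) a := H28Vert.isGen_idealSect hI hV hIa
  let e := ω.presheaf.map (homOfLE hVV₀).op e₀
  have he : H11Tilde.IsGen ω e := he₀.res hVV₀
  let J := ParSh.twistMap I ω
  let π := OmegaSh.idealSect I V a
  let T := H11Ample.tm e a
  have hT : H11Tilde.IsGen (CohB1.tensorMod ω (ClSub.idealMod I)) T := H11Ample.isGen_tm he heI
  have hJT : J.app V T = π • e := by
    show (KoszTw.tensorMap (𝟙 ω) (ClSub.idealModι I) ≫ (SecTwist.unitorR ω).hom).app V
      (SecTwist.tmul ω (ClSub.idealMod I) V e a) = _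
    refine Eq.trans (congrArg ((SecTwist.unitorR ω).hom.app V)
      (KoszTw.tensorMap_tmul (𝟙 ω) (ClSub.idealModι I) V e a)) ?_
    exact SecTwist.unitorR_tmul ω V e _
  let πp := X.presheaf.germ V p hpV π
  let ep := ω.presheaf.germ V p hpV e
  have hmax : IsLocalRing.maximalIdeal (X.presheaf.stalk p) = Ideal.span {πp} := by
    rw [← map_idl_eq_maximalIdeal (S := S) (fun z (hz : z = p) => hz ▸ hp) rfl ⟨V, hV⟩ hpV, hIa,
      Ideal.map_span, Set.image_singleton]
  have hπm : πp ∈ IsLocalRing.maximalIdeal (X.presheaf.stalk p) := hmax ▸ Ideal.mem_span_singleton_self _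
  have hπreg : ∀ r : X.presheaf.stalk p, r * πp = 0 → r = 0 := fun r hr => by
    letI : Algebra Γ(X, V) (X.presheaf.stalk p) := TopCat.Presheaf.algebra_section_stalk X.presheaf (⟨_, hpV⟩ : V)
    haveI : IsLocalization.AtPrime (X.presheaf.stalk p) (hV.primeIdealOf ⟨p, hpV⟩).asIdeal := hV.isLocalization_stalk ⟨p, hpV⟩
    exact (IsLocalization.map_nonZeroDivisors_le (hV.primeIdealOf ⟨p, hpV⟩).asIdeal.primeCompl
      (X.presheaf.stalk p) ⟨π, ha, rfl⟩).2 r hr
  have hJp : ∀ t, ∃ r : X.presheaf.stalk p, t = r • (CohB1.tensorMod ω (ClSub.idealMod I)).presheaf.germ V p hpV T ∧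
      stalkLin J p t = (r * πp) • ep := fun t => by
    obtain ⟨r, hr⟩ := (hT p hpV).2 t
    refine ⟨r, hr.symm, ?_⟩
    rw [← hr, map_smul, stalkLin_germ, hJT, H06Mod.germ_smul, smul_smul]
  have hJinj : ∀ y : X, Function.Injective (stalkLin J y) := fun y => by
    by_cases hy : y = p
    · subst y
      refine (injective_iff_map_eq_zero _).2 fun t ht => ?_
      obtain ⟨r, rfl, hr⟩ := hJp t
      rw [ht] at hr
      have h0 : r * πp = 0 := (he p hpV).1 (by
        show (r * πp) • ep = (0 : X.presheaf.stalk p) • ep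
        rw [zero_smul, ← hr])
      rw [hπreg r h0, zero_smul]
    · have := H25Euler.isIso_stalk_twistMap (X := X) I ω (x := y)
        (by rw [coe_support_idl]; exact hy)
      exact (ConcreteCategory.bijective_of_isIso ((DerSch.stalkFunctor X y).map J)).1
  haveI : Mono J := Preadditive.mono_of_kernel_zero
    ((H16Derived.KFlat.Stalk.isZero_of_stalk fun y => by
      haveI : Subsingleton ((DerSch.stalkFunctor X y).obj (kernel J)) :=
        H10Coh.subsingleton_stalk_kernel J y (hJinj y)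
      exact ModuleCat.isZero_of_subsingleton _).eq_of_src _ _)
  let g (s : Coh.structureModule X ⟶ ω) : Γ(ω, ⊤) := s.app ⊤ (H11Ample.one ⊤)
  let o (y : X) : (Coh.structureModule X).presheaf.stalk y :=
    (Coh.structureModule X).presheaf.germ ⊤ y trivial (H11Ample.one ⊤)
  have hsy : ∀ (s : Coh.structureModule X ⟶ ω) (y : X),
      stalkLin s y (o y) = ω.presheaf.germ ⊤ y trivial (g s) := fun s y => stalkLin_germ s y ⊤ trivial _
  have hloc : ∀ s : Coh.structureModule X ⟶ ω, CohB1.genLocus ω s = H11Ample.gen ω (g s) := fun s =>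
    H11Ample.genLocus_eq_gen s
  have key : ∀ s : Coh.structureModule X ⟶ ω,
      p ∉ CohB1.genLocus ω s ↔ ∃ s', s' ≫ J = s := by
    intro s
    obtain ⟨c, hc⟩ := H11Ample.exists_coeff he (ω.presheaf.map (homOfLE (le_top : V ≤ ⊤)).op (g s))
    have hgc : ω.presheaf.germ ⊤ p trivial (g s) = X.presheaf.germ V p hpV c • ep := by
      rw [← TopCat.Presheaf.germ_res_apply ω.presheaf (homOfLE (le_top : V ≤ ⊤)) p hpV, hc, H06Mod.germ_smul]
    have hiff : p ∈ CohB1.genLocus ω s ↔ IsUnit (X.presheaf.germ V p hpV c) := by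
      rw [hloc, ← X.mem_basicOpen c p hpV, ← H11Ample.gen_inf_eq_basicOpen he (g s) c hc]
      exact ⟨fun h => ⟨h, hpV⟩, fun h => h.1⟩
    constructor
    · intro hns
      refine exists_lift_of_range J s fun y => ?_
      rw [hsy]
      by_cases hyp : y = p
      · subst y
        have hcm : X.presheaf.germ V p hpV c ∈ IsLocalRing.maximalIdeal (X.presheaf.stalk p) :=
          (IsLocalRing.mem_maximalIdeal _).2 fun hu => hns (hiff.2 hu)
        rw [hmax, Ideal.mem_span_singleton'] at hcm
        obtain ⟨d, hd⟩ := hcm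
        refine ⟨d • (CohB1.tensorMod ω (ClSub.idealMod I)).presheaf.germ V p hpV T, ?_⟩
        rw [map_smul, stalkLin_germ, hJT, H06Mod.germ_smul, smul_smul, hd, hgc]
      · have := H25Euler.isIso_stalk_twistMap (X := X) I ω (x := y)
          (by rw [coe_support_idl]; exact hyp)
        exact (ConcreteCategory.bijective_of_isIso ((DerSch.stalkFunctor X y).map J)).2 _
    · rintro ⟨s', rfl⟩ hm
      obtain ⟨r, hr, hJr⟩ := hJp (stalkLin s' p (o p))
      have h1 : stalkLin (s' ≫ J) p (o p) = (r * πp) • ep := by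
        rw [H29CurveDual.Subcurve.stalkLin_comp]; exact hJr
      rw [hsy, hgc] at h1
      have h2 := (he p hpV).1 h1
      have h3 := hiff.1 hm
      rw [h2] at h3
      exact (IsLocalRing.mem_maximalIdeal _).1 (Ideal.mul_mem_left _ r hπm) h3
  -- morphisms out of `O(p)` are sections of `ω ⊗ I`
  let α : CohB1.tensorMod (CohB1.tensorMod ω (ClSub.idealMod I)) L ≅ ω :=
    H10Coh.Tw.assoc _ _ _ ≪≫ PicGrp.tensorModIso (Iso.refl ω) (H10Coh.Tw.commIso (ClSub.idealMod I) L ≪≫ eL) ≪≫
      SecTwist.unitorR ω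
  constructor
  · intro hsub s hs
    by_contra hns
    obtain ⟨s', rfl⟩ := (key s).1 hns
    have h0 : (H10Coh.Tw.leftUnitIso L).inv ≫ LimSh.tensorModMap s' L ≫ α.hom = 0 := Subsingleton.elim _ _
    rw [Preadditive.IsIso.comp_left_eq_zero, Preadditive.IsIso.comp_right_eq_zero] at h0
    exact hs (by rw [H10Coh.CurveBdd.eq_zero_of_tensorModMap hL h0, zero_comp])
  · intro hall
    refine subsingleton_of_forall_eq 0 fun φ => ?_
    by_contra hφ
    let s' : Coh.structureModule X ⟶ CohB1.tensorMod ω (ClSub.idealMod I) :=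
      eL.inv ≫ LimSh.tensorModMap φ (ClSub.idealMod I)
    have hs' : s' ≠ 0 := fun h0 => hφ (H10Coh.CurveBdd.eq_zero_of_tensorModMap hII
      (by rwa [Preadditive.IsIso.comp_left_eq_zero] at h0))
    have hs : s' ≫ J ≠ 0 := fun h0 => hs' (by rwa [← cancel_mono J, zero_comp])
    exact (key _).2 ⟨s', rfl⟩ (hall _ hs)

end Groth.Agent.H17.GorCurve
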