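import Groth.Agent.H17.GorCurve.Tree
import Groth.Prelude.Def_StCurv

/-!
# Stable curves without marked points: no rational tails and bridges
-/

set_option autoImplicit false
set_option linter.style.haveILetI false
set_option linter.unusedSectionVars false
set_option backward.isDefEq.respectTransparency false
set_option synthInstance.maxHeartbeats 400000
set_option maxHeartbeats 800000

universe u

open CategoryTheory CategoryTheory.Limits AlgebraicGeometry TopologicalSpace
open Groth.Agent.H29CurveDual.Subcurve

attribute [local instance] HasDerivedCategory.standard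

namespace Groth.Agent.H17.GorCurve

attribute [local instance 10000] H10Coh.hasSheafifyAb H10Coh.hasWeakSheafifyAb H10Coh.hasExtAb H10Coh.enoughInjAb

variable {k : Type u} [Field k] [IsAlgClosed k] {X : Scheme.{u}} [X.Over (Spec (CommRingCat.of k))]
  [IsProper (X ↘ Spec (CommRingCat.of k))] [IsReduced X] [ConnectedSpace X]

/-- A component of a curve with vanishing first cohomology is a smooth rational curve. -/
theorem isSmRatComp_of_genus_zero (hdim : topologicalKrullDim X = 1) {E : Set X}
    (hE : E ∈ irreducibleComponents (X : Type u))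
    (hg : @Curv2.genus k _ (idl (⟨E, isClosed_of_mem_irreducibleComponents E hE⟩ : Closeds X)).subscheme
      (overJ k (idl (⟨E, isClosed_of_mem_irreducibleComponents E hE⟩ : Closeds X))) = 0) :
    CurvSt.IsSmRatComp k X (X ↘ Spec (CommRingCat.of k)) E := by
  obtain ⟨hr, hc, hd⟩ := component_subcurve (k := k) hdim hE
  have hJr : Set.range (idl (⟨E, isClosed_of_mem_irreducibleComponents E hE⟩ : Closeds X)).subschemeι = E := by
    rw [Scheme.IdealSheafData.range_subschemeι]
    exact Scheme.IdealSheafData.coe_support_vanishingIdeal _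
  generalize idl (⟨E, isClosed_of_mem_irreducibleComponents E hE⟩ : Closeds X) = J at hr hc hd hJr hg
  haveI : IrreducibleSpace J.subscheme := by
    let h := J.subschemeι.isEmbedding.toHomeomorph
    haveI : IrreducibleSpace (Set.range J.subschemeι) := isIrreducible_iff_irreducibleSpace.1 (hJr.symm ▸ hE.1)
    refine (irreducibleSpace_def _).2 ?_
    have h1 := (IrreducibleSpace.isIrreducible_univ (Set.range J.subschemeι)).image h.symm h.symm.continuous.continuousOn
    rwa [Set.image_univ, h.symm.surjective.range_eq] at h1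
  haveI : IsIntegral J.subscheme := isIntegral_of_irreducibleSpace_of_isReduced _
  letI := overJ k J
  haveI : IsProper (J.subscheme ↘ Spec (CommRingCat.of k)) :=
    inferInstanceAs (IsProper (J.subschemeι ≫ (X ↘ Spec (CommRingCat.of k))))
  have hs : Smooth (J.subscheme ↘ Spec (CommRingCat.of k)) := Groth.Agent.S14512.result k J.subscheme hd hg
  haveI : Smooth (J.subschemeι ≫ (X ↘ Spec (CommRingCat.of k))) := hs
  obtain ⟨e, he⟩ := H29DoubleCover.exists_iso_projLine (J.subschemeι ≫ (X ↘ Spec (CommRingCat.of k)))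
    (hP := hd) hg
  refine ⟨hE, e.inv ≫ J.subschemeι, inferInstance, ?_, ?_⟩
  · rw [Category.assoc, ← he, Iso.inv_hom_id_assoc]
  · rw [Scheme.Hom.comp_base, TopCat.coe_comp, Set.range_comp,
      show Set.range e.inv = Set.univ from Set.range_eq_univ.2 e.inv.homeomorph.surjective, Set.image_univ, hJr]

/-- A smooth rational component has genus zero. -/
theorem genus_zero_of_isSmRatComp (hdim : topologicalKrullDim X = 1) {E : Set X}
    (h : CurvSt.IsSmRatComp k X (X ↘ Spec (CommRingCat.of k)) E) :
    @Curv2.genus k _ (idl (⟨E, isClosed_of_mem_irreducibleComponents E h.1⟩ : Closeds X)).subscheme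
      (overJ k (idl (⟨E, isClosed_of_mem_irreducibleComponents E h.1⟩ : Closeds X))) = 0 := by
  obtain ⟨hE, e, hcl, -, hrange⟩ := h
  haveI := hcl
  haveI : IsIntegral (CohB1.ProjSpace 1 k) := (H28Curve.projLine_facts k).1
  obtain ⟨hr, -, -⟩ := component_subcurve (k := k) hdim hE
  haveI := hr
  obtain ⟨φ, -⟩ := GenusZeroSt.exists_iso_of_range_eq
    (idl (⟨E, isClosed_of_mem_irreducibleComponents E hE⟩ : Closeds X)).subschemeι e
    (by rw [Scheme.IdealSheafData.range_subschemeι, hrange]; exact Scheme.IdealSheafData.coe_support_vanishingIdeal _)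
  haveI := GenusZeroSt.subsingleton_h1_of_iso_projLine φ
  letI := overJ k (idl (⟨E, isClosed_of_mem_irreducibleComponents E hE⟩ : Closeds X))
  exact Module.finrank_zero_of_subsingleton

include k in
/-- The points of a component lying on another one. -/
theorem meetPts_eq (hdim : topologicalKrullDim X = 1) {E : Set X} (hE : E ∈ irreducibleComponents (X : Type u)) :
    CurvSt.meetPts X E = E ∩ (compl (⟨E, isClosed_of_mem_irreducibleComponents E hE⟩ : Closeds X) : Set X) := by
  haveI := H28Int.isNoetherian k (X := X)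
  let W : Closeds X := ⟨E, isClosed_of_mem_irreducibleComponents E hE⟩
  ext p
  refine ⟨fun ⟨hp, E', hE', hne, hpE'⟩ => ⟨hp, ?_⟩, fun ⟨hp, hpc⟩ => ⟨hp, ?_⟩⟩
  · obtain ⟨η, hη⟩ := QuasiSober.sober hE'.1 (isClosed_of_mem_irreducibleComponents E' hE')
    have hout : η ∉ W := fun hm => hne (by
      have h1 : E' ⊆ E := hη.def ▸ closure_minimal (Set.singleton_subset_iff.2 hm) W.isClosed
      exact Set.Subset.antisymm h1 (hE'.2 hE.1 h1))
    have h2 := closure_minimal (Set.singleton_subset_iff.2 (mem_compl_of_notMem hout)) (compl W).isClosed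
    rw [hη.def] at h2
    exact h2 hpE'
  · have h1 := isPure_compl (isPure_top hdim) W hpc
    rw [← Set.biUnion_of_singleton {z | z ∈ compl W ∧ ¬ IsClosed ({z} : Set X)},
      ((finite_nonclosed hdim.le).subset fun z hz => hz.2).closure_biUnion] at h1
    obtain ⟨η', hη', hx'⟩ := Set.mem_iUnion₂.1 h1
    refine ⟨closure {η'}, mem_genericPoints_of_not_isClosed hdim.le hη'.2, fun h => ?_, hx'⟩
    exact (mem_iff_notMem_compl hdim.le (isPure_top hdim) W hη'.2).1 (h.le (subset_closure rfl)) hη'.1

/-- Data of a component: `deg ω = 2g - 2 + n`, tails have `n ≤ 1`, bridges `n = 2`. -/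
theorem component_data (hdim : topologicalKrullDim X = 1) (hX : Curv2.AtWorstNodal k X) {ω : X.Modules}
    (hω : IsDualizing k ω) {E : Set X} (hE : E ∈ irreducibleComponents (X : Type u)) :
    (CurvSt.meetPts X E).Finite ∧
    degJ k (idl (⟨E, isClosed_of_mem_irreducibleComponents E hE⟩ : Closeds X)) ω =
      2 * (@Curv2.genus k _ (idl (⟨E, isClosed_of_mem_irreducibleComponents E hE⟩ : Closeds X)).subscheme
        (overJ k (idl (⟨E, isClosed_of_mem_irreducibleComponents E hE⟩ : Closeds X))) : ℤ) - 2 +
        (CurvSt.meetPts X E).ncard ∧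
    (Curv2.IsRationalTail X E hE →
      @Curv2.genus k _ (idl (⟨E, isClosed_of_mem_irreducibleComponents E hE⟩ : Closeds X)).subscheme
        (overJ k (idl (⟨E, isClosed_of_mem_irreducibleComponents E hE⟩ : Closeds X))) = 0 ∧
      (CurvSt.meetPts X E).ncard ≤ 1) ∧
    (Curv2.IsRationalBridge k X E hE →
      @Curv2.genus k _ (idl (⟨E, isClosed_of_mem_irreducibleComponents E hE⟩ : Closeds X)).subscheme
        (overJ k (idl (⟨E, isClosed_of_mem_irreducibleComponents E hE⟩ : Closeds X))) = 0 ∧
      (CurvSt.meetPts X E).ncard = 2) := by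
  haveI := H28Int.isNoetherian k (X := X)
  let W : Closeds X := ⟨E, isClosed_of_mem_irreducibleComponents E hE⟩
  obtain ⟨hr, hc, hd⟩ := component_subcurve (k := k) hdim hE
  haveI := hr
  haveI := hc
  obtain ⟨η, hη, hηE⟩ := H23Gor.exists_nonclosed_generic (k := k) (equidim_of_connected (k := k) hdim) hE
  have hW : IsPure W := (Closeds.ext hηE.symm : W = ⟨closure {η}, isClosed_closure⟩) ▸ isPure_closure hη
  have hp : IsPure (⊤ : Closeds X) := isPure_top hdim
  have hδ := delta_eq_ncard (k := k) hX hdim.le hp hW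
  have hk : (Scheme.Opens.ι (⟨Eᶜ, (isClosed_of_mem_irreducibleComponents E hE).isOpen_compl⟩ : X.Opens)).ker =
      idl (compl W) := by
    rw [H23Gor.ker_opens_compl (k := k) E hE]
    exact congrArg idl (Closeds.ext
      (congrArg (fun S => closure Sᶜ) (Scheme.IdealSheafData.coe_support_vanishingIdeal W)))
  rw [meetPts_eq (k := k) hdim hE]
  have hg0 : Subsingleton (Coh.HH (idl W).subscheme (Coh.structureModule (idl W).subscheme) 1) →
      @Curv2.genus k _ (idl W).subscheme (overJ k (idl W)) = 0 := fun _ => by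
    letI := overJ k (idl W)
    exact Module.finrank_zero_of_subsingleton
  refine ⟨(inter_finite hdim.le hp W).1, ?_, ?_, ?_⟩
  · rw [(numerics hdim hω hω.1 (idl W) hd).1, deltaJ_idl, hδ]
    rfl
  · rintro ⟨-, -, hsub, -, -, h1⟩
    refine ⟨hg0 h1, ?_⟩
    rw [hk] at hsub
    refine (Set.ncard_le_one_iff (inter_finite hdim.le hp W).1).2 fun {a b} ha hb => ?_
    have hmem : ∀ z ∈ (W : Set X) ∩ compl W, z ∈ Set.range (idl W ⊔ idl (compl W)).subschemeι := fun z hz => by
      rw [Scheme.IdealSheafData.range_subschemeι, Scheme.IdealSheafData.support_sup, Closeds.coe_inf,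
        Scheme.IdealSheafData.coe_support_vanishingIdeal, Scheme.IdealSheafData.coe_support_vanishingIdeal]
      exact hz
    obtain ⟨a', rfl⟩ := hmem a ha
    obtain ⟨b', rfl⟩ := hmem b hb
    rw [@Subsingleton.elim _ hsub a' b']
  · rintro ⟨-, h2, h1⟩
    refine ⟨hg0 h1, ?_⟩
    rw [hk, H23Gor.finrank_quotMod k (idl W) 0] at h2
    have h0 : @Module.finrank k (Coh.HH (idl W).subscheme (Coh.structureModule (idl W).subscheme) 0) _ _
        (@Coh.moduleOver k _ (idl W).subscheme (overJ k (idl W)) _ 0) = 1 := by
      letI := overJ k (idl W)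
      haveI : IsProper ((idl W).subscheme ↘ Spec (CommRingCat.of k)) :=
        inferInstanceAs (IsProper ((idl W).subschemeι ≫ (X ↘ Spec (CommRingCat.of k))))
      exact H29RR.finrank_h0_structure k _
    rw [h0, mul_one] at h2
    exact_mod_cast hδ.symm.trans (congrArg Nat.cast h2)

end Groth.Agent.H17.GorCurve
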