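import Groth.Agent.H23Gor.PointedCrit
import Groth.Agent.H17.GorCurve.Pointed
import Groth.Agent.H06NormCurve.Node
import Groth.Agent.H17.GenusZeroSt.Plane
import Groth.Agent.H29DoubleCover.Unique
import Groth.Agent.H17.GenusZeroSt.ClosedFibres
import Groth.Agent.H26Smooth.ProjSmooth
import Groth.Agent.H28Curve.ProjLine
import Groth.Agent.S14512
import Groth.Agent.S9810

/-!
# Trees of rational curves: the count of the nodes
-/

set_option autoImplicit false
set_option linter.style.haveILetI false
set_option linter.unusedSectionVars false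
set_option backward.isDefEq.respectTransparency false
set_option synthInstance.maxHeartbeats 400000
set_option maxHeartbeats 800000

universe u

open CategoryTheory CategoryTheory.Limits AlgebraicGeometry TopologicalSpace
open Groth.Agent.H29CurveDual.Subcurve

attribute [local instance] HasDerivedCategory.standard

namespace Groth.Agent.H17.GorCurve

attribute [local instance 10000] H10Coh.hasSheafifyAb H10Coh.hasWeakSheafifyAb H10Coh.hasExtAb H10Coh.enoughInjAb

variable {k : Type u} [Field k] [IsAlgClosed k] {X : Scheme.{u}} [X.Over (Spec (CommRingCat.of k))]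
  [IsProper (X ↘ Spec (CommRingCat.of k))] [IsReduced X] [ConnectedSpace X]

/-- At most two components pass through a node. -/
theorem ncard_generic_specializes_le_two (hdim : topologicalKrullDim X = 1) {x : X} (hx : Curv2.IsNode k X x) :
    {η : X | η ∈ genericPoints X ∧ η ⤳ x}.Finite ∧ {η : X | η ∈ genericPoints X ∧ η ⤳ x}.ncard ≤ 2 := by
  haveI := H28Int.isNoetherian k (X := X)
  let A := X.presheaf.stalk x
  haveI : IsNoetherianRing A := inferInstance
  have hfin : (minimalPrimes A).Finite := minimalPrimes.finite_of_isNoetherianRing A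
  haveI : Fintype (minimalPrimes A) := hfin.fintype
  obtain ⟨e⟩ := H06NormCurve.exists_multicross hx
  have h2 := (H06Wedge.invariants_of_completion_multicross (AlgebraicClosure k) A
    (H06Wedge.ringKrullDim_stalk_of_pure_one (K := k) (equidim_of_connected (k := k) hdim) hx.1)
    (H06DeltaBC.isNagata_stalk k (X ↘ (Spec (CommRingCat.of k))) x) 2 e).1
  rw [Groth.Agent.S9810.result A hfin, finsum_eq_sum_of_fintype] at h2
  have hcard : (minimalPrimes A).ncard ≤ 2 := by
    rw [← Nat.card_coe_set_eq, Nat.card_eq_fintype_card, ← Nat.cast_le (α := ℕ∞)]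
    refine le_trans ?_ h2.le
    rw [← Finset.card_univ, Finset.cast_card]
    refine Finset.sum_le_sum fun p _ => ?_
    haveI : p.1.IsPrime := p.2.1.1
    unfold Brnch.numBranches
    haveI : Nontrivial (CAlg2.red (A ⧸ p.1)) :=
      Ideal.Quotient.nontrivial_iff.mpr fun h => not_isNilpotent_one (R := A ⧸ p.1)
        (mem_nilradical.1 (h.symm ▸ Submodule.mem_top : (1 : A ⧸ p.1) ∈ nilradical (A ⧸ p.1)))
    haveI : Nontrivial (CAlg2.normRed (A ⧸ p.1)) := inferInstance
    haveI hne : Nonempty (MaximalSpectrum (CAlg2.normRed (A ⧸ p.1))) := inferInstance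
    split
    · exact (ENat.one_le_card_iff_nonempty _).2 hne
    · exact le_top
  have hsub : {η : X | η ∈ genericPoints X ∧ η ⤳ x} ⊆
      (fun q : PrimeSpectrum A => X.fromSpecStalk x q) '' {q | q.asIdeal ∈ minimalPrimes A} := by
    rintro η ⟨hη, hs⟩
    obtain ⟨q, rfl⟩ : η ∈ Set.range (X.fromSpecStalk x) := by
      rw [Scheme.range_fromSpecStalk]; exact hs
    obtain ⟨p, hp, hpq⟩ := Ideal.exists_minimalPrimes_le (I := (⊥ : Ideal A)) (J := q.asIdeal) bot_le
    refine ⟨⟨p, hp.1.1⟩, hp, ?_⟩
    exact H8Props.mem_genericPoints_iff.1 hη _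
      (((PrimeSpectrum.le_iff_specializes (⟨p, hp.1.1⟩ : PrimeSpectrum A) q).1 hpq).map (X.fromSpecStalk x).continuous)
  have hq : {q : PrimeSpectrum A | q.asIdeal ∈ minimalPrimes A}.Finite :=
    hfin.preimage fun a _ b _ h => PrimeSpectrum.ext h
  refine ⟨(hq.image _).subset hsub, ((Set.ncard_le_ncard hsub (hq.image _)).trans (Set.ncard_image_le hq)).trans ?_⟩
  exact (Set.ncard_le_ncard_of_injOn (fun q => q.asIdeal) (fun q hq => hq) (fun a _ b _ h => PrimeSpectrum.ext h) hfin).trans hcard

/-- A node lying on one component only is singular on that component. -/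
theorem mem_closure_compl_of_isNode (hdim : topologicalKrullDim X = 1) {x : X} (hx : Curv2.IsNode k X x)
    {W : Closeds X} (hxW : x ∈ W) (hsm : Smooth ((idl W).subschemeι ≫ (X ↘ Spec (CommRingCat.of k)))) :
    x ∈ compl W := by
  by_contra hxc
  haveI := H28Int.isNoetherian k (X := X)
  let J := idl W
  haveI : IsReduced J.subscheme := H17.isReduced_vanishingIdeal_subscheme W
  let U : X.Opens := ⟨(compl W : Set X)ᶜ, (compl W).isClosed.isOpen_compl⟩
  have hUW : ∀ z : X, z ∈ U → z ∈ W := fun z hz => not_not.1 fun h => hz (mem_compl_of_notMem h)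
  have hr : Set.range J.subschemeι = (W : Set X) := by
    rw [Scheme.IdealSheafData.range_subschemeι, Scheme.IdealSheafData.coe_support_vanishingIdeal]
  haveI : Surjective (J.subschemeι ∣_ U) := ⟨fun z => by
    obtain ⟨y, hy⟩ : z.1 ∈ Set.range J.subschemeι := hr.symm.subset (hUW z.1 z.2)
    refine ⟨⟨y, (show J.subschemeι y ∈ U by rw [hy]; exact z.2)⟩, ?_⟩
    exact Subtype.ext ((morphismRestrict_base_coe _ _ _).trans hy)⟩
  haveI : IsClosedImmersion (J.subschemeι ∣_ U) :=
    MorphismProperty.of_isPullback (isPullback_morphismRestrict J.subschemeι U).flip inferInstance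
  haveI : IsReduced (U : Scheme.{u}) := isReduced_of_isOpenImmersion U.ι
  haveI : IsIso (J.subschemeι ∣_ U) := isIso_of_isClosedImmersion_of_surjective _
  haveI := hsm
  haveI : Smooth (U.ι ≫ (X ↘ Spec (CommRingCat.of k))) := by
    have e : U.ι ≫ (X ↘ Spec (CommRingCat.of k)) =
        inv (J.subschemeι ∣_ U) ≫ (J.subschemeι ⁻¹ᵁ U).ι ≫ J.subschemeι ≫ (X ↘ Spec (CommRingCat.of k)) := by
      rw [← morphismRestrict_ι_assoc, IsIso.inv_hom_id_assoc]
    rw [e]
    infer_instance
  have h0 := H06NormCurve.deltaInv_of_smooth_nhd (k := k) (X := X) (x := x) ⟨U, hxc, ‹_›⟩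
  rw [H06NormCurve.deltaInv_of_isNode (equidim_of_connected (k := k) hdim) hx] at h0
  exact one_ne_zero h0

/-- When all components are smooth rational curves, `#nodes + 1 = #components + genus`. -/
theorem card_nodes_add_one (hdim : topologicalKrullDim X = 1) (hX : Curv2.AtWorstNodal k X)
    (hsm : ∀ (E : Set X) (hE : E ∈ irreducibleComponents (X : Type u)),
      Smooth ((idl (⟨E, isClosed_of_mem_irreducibleComponents E hE⟩ : Closeds X)).subschemeι ≫
        (X ↘ Spec (CommRingCat.of k))) ∧
      @Curv2.genus k _ (idl (⟨E, isClosed_of_mem_irreducibleComponents E hE⟩ : Closeds X)).subscheme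
        (overJ k (idl (⟨E, isClosed_of_mem_irreducibleComponents E hE⟩ : Closeds X))) = 0) :
    {x : X | Curv2.IsNode k X x}.encard + 1 =
      (irreducibleComponents (X : Type u)).encard + (Curv2.genus k X : ℕ∞) := by
  classical
  haveI := H28Int.isNoetherian k (X := X)
  have hequi := equidim_of_connected (k := k) hdim
  have hp : IsPure (⊤ : Closeds X) := isPure_top hdim
  obtain ⟨ω, hω⟩ := H23Gor.exists_isDualizing hdim hX
  let T := (finite_nonclosed (X := X) hdim.le).toFinset
  have hT : ∀ η : X, η ∈ T ↔ ¬ IsClosed ({η} : Set X) := fun η => Set.Finite.mem_toFinset _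
  have hTE : ∀ η ∈ T, closure ({η} : Set X) ∈ irreducibleComponents (X : Type u) := fun η hη =>
    mem_genericPoints_of_not_isClosed hdim.le ((hT η).1 hη)
  have hinj : Set.InjOn (fun η : X => closure ({η} : Set X)) T := fun a _ b _ h =>
    ((specializes_iff_mem_closure.2 (h.ge (subset_closure rfl) : b ∈ closure ({a} : Set X))).antisymm
      (specializes_iff_mem_closure.2 (h.le (subset_closure rfl) : a ∈ closure ({b} : Set X)))).eq
  have hcomp : irreducibleComponents (X : Type u) = (fun η : X => closure ({η} : Set X)) '' T := by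
    refine Set.Subset.antisymm (fun E hE => ?_) (Set.image_subset_iff.2 fun η hη => hTE η hη)
    obtain ⟨η, hη, hηE⟩ := H23Gor.exists_nonclosed_generic (k := k) hequi hE
    exact ⟨η, (hT η).2 hη, hηE⟩
  have hgen : ∀ η : X, η ∈ genericPoints X → η ∈ T := fun η hη => by
    obtain ⟨η', hη', he⟩ := H23Gor.exists_nonclosed_generic (k := k) hequi hη
    have : η' = η := ((specializes_iff_mem_closure.2 (he.ge (subset_closure rfl) : η ∈ closure ({η'} : Set X))).antisymm
      (specializes_iff_mem_closure.2 (he.le (subset_closure rfl) : η' ∈ closure ({η} : Set X)))).eq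
    exact (hT η).2 (this ▸ hη')
  let W (η : X) : Closeds X := ⟨closure {η}, isClosed_closure⟩
  let I (η : X) : Set X := (W η : Set X) ∩ compl (W η)
  let N : Set X := {x | Curv2.IsNode k X x}
  have hIN : ∀ η ∈ T, I η ⊆ N := fun η hη x hx =>
    H23Gor.isNode_of_mem_inter hdim hX (isPure_closure ((hT η).1 hη)) hx.1 hx.2
  have hdeg : ∀ η ∈ T, degW k (W η) ω = ((I η).ncard : ℤ) - 2 := fun η hη => by
    have hWp := isPure_closure ((hT η).1 hη)
    obtain ⟨hsm1, hg1⟩ := hsm _ (hTE η hη)
    obtain ⟨hr, hc, hd⟩ := component_subcurve (k := k) hdim (hTE η hη)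
    have hn := (numerics hdim hω hω.1 (idl (W η)) hd).1
    rw [deltaJ_idl, delta_eq_ncard hX hdim.le hp hWp, hg1] at hn
    rw [degW_eq_deg hω.1]
    exact hn.trans (by push_cast; ring)
  -- every node is on exactly two components
  have hnode : ∀ x ∈ N, ∃ a ∈ T, ∃ b ∈ T, a ≠ b ∧ {η ∈ T | x ∈ I η} = {a, b} := by
    intro x hx
    obtain ⟨hGfin, hG⟩ := ncard_generic_specializes_le_two (k := k) hdim hx
    obtain ⟨a, ha, hax⟩ : ∃ a ∈ T, a ⤳ x := by
      obtain ⟨η, hη⟩ := QuasiSober.sober (irreducibleComponent_mem_irreducibleComponents x).1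
        (isClosed_of_mem_irreducibleComponents _ (irreducibleComponent_mem_irreducibleComponents x))
      refine ⟨η, hgen η (show closure {η} ∈ irreducibleComponents X by
        rw [hη.def]; exact irreducibleComponent_mem_irreducibleComponents x), ?_⟩
      rw [specializes_iff_mem_closure, hη.def]
      exact mem_irreducibleComponent
    have hxc : x ∈ compl (W a) :=
      mem_closure_compl_of_isNode hdim hx (specializes_iff_mem_closure.1 hax) (hsm _ (hTE a ha)).1
    obtain ⟨b, hb, hbx, hab⟩ : ∃ b ∈ T, b ⤳ x ∧ a ≠ b := by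
      have h := isPure_compl hp (W a) hxc
      rw [← Set.biUnion_of_singleton {w : X | w ∈ compl (W a) ∧ ¬ IsClosed ({w} : Set X)},
        ((finite_nonclosed (X := X) hdim.le).subset fun w hw => hw.2).closure_biUnion] at h
      simp only [Set.mem_iUnion] at h
      obtain ⟨w, ⟨hw, hw'⟩, hwx⟩ := h
      refine ⟨w, (hT w).2 hw', specializes_iff_mem_closure.2 hwx, fun e => ?_⟩
      exact (mem_iff_notMem_compl hdim.le hp (W a) hw').1 (e ▸ subset_closure rfl) hw
    refine ⟨a, ha, b, hb, hab, Finset.ext fun η => ?_⟩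
    rw [Finset.mem_filter, Finset.mem_insert, Finset.mem_singleton]
    constructor
    · rintro ⟨hη, hxη, -⟩
      by_contra hne
      push Not at hne
      have hsub : ({η, a, b} : Set X) ⊆ {z : X | z ∈ genericPoints X ∧ z ⤳ x} := by
        rintro z (rfl | rfl | rfl)
        exacts [⟨mem_genericPoints_of_not_isClosed hdim.le ((hT _).1 hη), specializes_iff_mem_closure.2 hxη⟩,
          ⟨mem_genericPoints_of_not_isClosed hdim.le ((hT _).1 ha), hax⟩,
          ⟨mem_genericPoints_of_not_isClosed hdim.le ((hT _).1 hb), hbx⟩]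
      have h3 : ({η, a, b} : Set X).ncard = 3 :=
        Set.ncard_eq_three.2 ⟨η, a, b, hne.1, hne.2, hab, rfl⟩
      have := (Set.ncard_le_ncard hsub hGfin).trans hG
      omega
    · rintro (rfl | rfl)
      · exact ⟨ha, specializes_iff_mem_closure.1 hax, hxc⟩
      · exact ⟨hb, specializes_iff_mem_closure.1 hbx,
          mem_closure_compl_of_isNode hdim hx (specializes_iff_mem_closure.1 hbx) (hsm _ (hTE _ hb)).1⟩
  have hNfin : N.Finite := by
    refine (T.finite_toSet.biUnion fun η _ => (inter_finite hdim.le hp (W η)).1).subset fun x hx => ?_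
    obtain ⟨a, ha, b, -, -, he⟩ := hnode x hx
    have : a ∈ {η ∈ T | x ∈ I η} := he ▸ Finset.mem_insert_self a _
    exact Set.mem_iUnion₂.2 ⟨a, ha, (Finset.mem_filter.1 this).2⟩
  have hsum : ∑ η ∈ T, (I η).ncard = 2 * N.ncard := by
    calc ∑ η ∈ T, (I η).ncard = ∑ η ∈ T, ∑ x ∈ hNfin.toFinset, if x ∈ I η then 1 else 0 := by
          refine Finset.sum_congr rfl fun η hη => ?_
          rw [Finset.sum_boole, Nat.cast_id, ← Set.ncard_coe_finset]
          refine congrArg Set.ncard (Set.ext fun x => ?_)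
          simp only [Finset.coe_filter, Set.Finite.mem_toFinset, Set.mem_setOf_eq]
          exact ⟨fun h => ⟨hIN η hη h, h⟩, fun h => h.2⟩
      _ = ∑ x ∈ hNfin.toFinset, ∑ η ∈ T, if x ∈ I η then 1 else 0 := Finset.sum_comm
      _ = ∑ x ∈ hNfin.toFinset, 2 := by
          refine Finset.sum_congr rfl fun x hx => ?_
          obtain ⟨a, -, b, -, hab, he⟩ := hnode x (hNfin.mem_toFinset.1 hx)
          rw [Finset.sum_boole, he, Finset.card_pair hab, Nat.cast_id]
      _ = 2 * N.ncard := by rw [Finset.sum_const, smul_eq_mul, Set.ncard_eq_toFinset_card N hNfin, mul_comm]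
  have htot : degW k (⊤ : Closeds X) ω = ∑ η ∈ T, (((I η).ncard : ℤ) - 2) :=
    (H23Gor.degW_eq_sum (k := k) hdim.le hω.1 ⊤ T fun η => ⟨fun h => ⟨trivial, (hT η).1 h⟩, fun h => (hT η).2 h.2⟩).trans
      (Finset.sum_congr rfl hdeg)
  have htop : degW k (⊤ : Closeds X) ω = Curv2.deg k X ω 1 := by
    rw [← degJ_bot hω.1, show (⊥ : X.IdealSheafData) = idl (⊤ : Closeds X) by
      rw [idl, Scheme.IdealSheafData.vanishingIdeal_top, Scheme.nilradical_eq_bot]]
    exact degW_eq_deg hω.1 ⊤
  have hχ : Curv2.euler k X (Coh.structureModule X) = 1 - (Curv2.genus k X : ℤ) := by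
    rw [H29RR.euler_eq_sub (k := k) hdim.le, H29RR.finrank_h0_structure k X]
    rfl
  rw [htop, deg_omega hdim hω, hχ, Finset.sum_sub_distrib, Finset.sum_const, nsmul_eq_mul] at htot
  have hsum' : (∑ η ∈ T, ((I η).ncard : ℤ)) = 2 * (N.ncard : ℤ) := by exact_mod_cast hsum
  rw [hsum'] at htot
  have hnat : N.ncard + 1 = T.card + Curv2.genus k X := by omega
  rw [hcomp, hinj.encard_image, Set.encard_coe_eq_coe_finsetCard, ← hNfin.cast_ncard_eq]
  exact_mod_cast hnat

end Groth.Agent.H17.GorCurve
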